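import Cfsg.Agent.ClassicalMax.ExtOrth3.Deg3.Form
import Cfsg.Agent.ClassicalMax.RootPlanes

/-!
Maximality in `Ω` through subgroups of the commutator subgroup of the abstract orthogonal group.
-/

set_option autoImplicit false
open Cfsg

namespace Cfsg.Agent.ClassicalMax.ExtOrth3.Deg3

open Module QuadraticMap Cfsg.Agent.Classical Cfsg.Agent.Classical.Quad

variable {F : Type*} [Field F] [Fintype F] {ι : Type} [Fintype ι] [DecidableEq ι]

/-- maximality in `Ω` through subgroups of the commutator subgroup of the abstract orthogonal group -/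
theorem isMaximalIn_omega_le (Q : QuadraticForm F (ι → F)) (hQ : (polarBilin Q).Nondegenerate) (hn : 5 ≤ Fintype.card ι)
    (S : Subgroup (GL ι F))
    (hne : ∃ g ∈ commutator (oG Q), (glEquiv ι F).symm g.1 ∉ S)
    (hover : ∀ H : Subgroup (oG Q), H ≤ commutator (oG Q) →
      (∀ g ∈ commutator (oG Q), (glEquiv ι F).symm g.1 ∈ S → g ∈ H) →
      ∀ g ∈ H, (glEquiv ι F).symm g.1 ∉ S → eo Q ≤ H) :
    Cfsg.Geo.IsMaximalIn (Cfsg.Geo.omegaGL ⇑Q) (S ⊓ Cfsg.Geo.omegaGL ⇑Q) := by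
  constructor
  · obtain ⟨g, hg, hgS⟩ := hne
    exact lt_of_le_of_ne inf_le_right fun heq => hgS (heq.ge ((Subfield.RootOrth.mem_omegaGL Q g).2 hg)).1
  · intro M hM1 hM2
    by_cases hle : M ≤ S
    · exact Or.inl (le_antisymm (le_inf hle hM2) hM1)
    refine Or.inr (le_antisymm hM2 fun k hk => ?_)
    let φ : oG Q →* GL ι F := (glEquiv ι F).symm.toMonoidHom.comp (oG Q).subtype
    obtain ⟨x, hxM, hxS⟩ := SetLike.not_le_iff_exists.1 hle
    obtain ⟨g, hgc, hgx⟩ := Subfield.RootOrth.exists_oG_of_omega Q (hM2 hxM)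
    have hgx' : (glEquiv ι F).symm g.1 = x := by rw [hgx, MulEquiv.symm_apply_apply]
    have hgH : g ∈ M.comap φ ⊓ commutator (oG Q) := by
      refine ⟨?_, hgc⟩
      show (glEquiv ι F).symm g.1 ∈ M
      rw [hgx']; exact hxM
    have hH : ∀ g ∈ commutator (oG Q), (glEquiv ι F).symm g.1 ∈ S → g ∈ M.comap φ ⊓ commutator (oG Q) :=
      fun g hg hgS => ⟨hM1 ⟨hgS, (Subfield.RootOrth.mem_omegaGL Q g).2 hg⟩, hg⟩
    have heo := hover _ inf_le_right hH g hgH (by rw [hgx']; exact hxS)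
    obtain ⟨k', hk', hkk⟩ := Subfield.RootOrth.exists_oG_of_omega Q hk
    have := (heo (commutator_le_eo hQ (by rw [Module.finrank_fintype_fun_eq_card]; omega) hk')).1
    have h' : (glEquiv ι F).symm k'.1 ∈ M := this
    rwa [hkk, MulEquiv.symm_apply_apply] at h'

end Cfsg.Agent.ClassicalMax.ExtOrth3.Deg3
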