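import Mathlib.FieldTheory.ChevalleyWarning
import Mathlib.LinearAlgebra.Dimension.Finrank
import Mathlib.LinearAlgebra.Dual.Lemmas

/-!
Functions on a finite vector space given by polynomials of bounded degree in the coordinates, and the vanishing of
their sum over the space.
-/

set_option autoImplicit false
set_option linter.unusedSectionVars false

namespace Cfsg.Agent.ClassicalMax.ExtOrth3.Deg3

open Module MvPolynomial

variable {F U W : Type*} [Field F] [AddCommGroup U] [Module F U] [FiniteDimensional F U] [AddCommGroup W] [Module F W]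

/-- a scalar function given by a polynomial of degree at most `d` in the coordinates -/
def Deg (d : ℕ) (g : U → F) : Prop :=
  ∃ P : MvPolynomial (Fin (finrank F U)) F, P.totalDegree ≤ d ∧
    ∀ t, g t = eval (fun i => (Module.finBasis F U).repr t i) P

variable (F) in
/-- a vector function all whose components have degree at most `d` -/
def DegV (d : ℕ) (u : U → W) : Prop := ∀ φ : W →ₗ[F] F, Deg d fun t => φ (u t)

theorem Deg.const (a : F) (d : ℕ) : Deg d (fun _ : U => a) :=
  ⟨C a, by rw [totalDegree_C]; exact Nat.zero_le _, fun t => by rw [eval_C]⟩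

theorem Deg.congr {d : ℕ} {g g' : U → F} (h : Deg d g) (e : ∀ t, g' t = g t) : Deg d g' := by
  obtain ⟨P, hP, hg⟩ := h
  exact ⟨P, hP, fun t => (e t).trans (hg t)⟩

theorem Deg.mono {d d' : ℕ} {g : U → F} (h : Deg d g) (hd : d ≤ d') : Deg d' g := by
  obtain ⟨P, hP, hg⟩ := h
  exact ⟨P, hP.trans hd, hg⟩

theorem Deg.add {d : ℕ} {g g' : U → F} (h : Deg d g) (h' : Deg d g') : Deg d fun t => g t + g' t := by
  obtain ⟨P, hP, hg⟩ := h
  obtain ⟨P', hP', hg'⟩ := h'
  exact ⟨P + P', (totalDegree_add _ _).trans (max_le hP hP'), fun t => by rw [map_add, ← hg, ← hg']⟩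

theorem Deg.sum {κ : Type*} (s : Finset κ) {d : ℕ} {g : κ → U → F} (h : ∀ i ∈ s, Deg d (g i)) :
    Deg d fun t => ∑ i ∈ s, g i t := by
  classical
  induction s using Finset.induction_on with
  | empty => exact (Deg.const 0 d).congr fun t => by simp
  | insert a s ha ih =>
    exact ((h a (Finset.mem_insert_self a s)).add (ih fun i hi => h i (Finset.mem_insert_of_mem hi))).congr
      fun t => Finset.sum_insert ha

theorem Deg.mul {d d' : ℕ} {g g' : U → F} (h : Deg d g) (h' : Deg d' g') : Deg (d + d') fun t => g t * g' t := by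
  obtain ⟨P, hP, hg⟩ := h
  obtain ⟨P', hP', hg'⟩ := h'
  exact ⟨P * P', (totalDegree_mul _ _).trans (add_le_add hP hP'), fun t => by rw [map_mul, ← hg, ← hg']⟩

theorem Deg.linear (L : U →ₗ[F] F) : Deg 1 fun t => L t := by
  set b := Module.finBasis F U
  refine (Deg.sum Finset.univ (g := fun i t => L (b i) * b.repr t i) fun i _ => ?_).congr fun t => ?_
  · refine (Deg.const (L (b i)) 0).mul (d' := 1) (g' := fun t => b.repr t i) ?_
    exact ⟨X i, by rw [totalDegree_X], fun t => by rw [eval_X]⟩
  · conv_lhs => rw [← b.sum_repr t, map_sum]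
    exact Finset.sum_congr rfl fun i _ => by rw [map_smul, smul_eq_mul, mul_comm]

theorem DegV.const (a : W) (d : ℕ) : DegV F d (fun _ : U => a) := fun φ => Deg.const (φ a) d

theorem DegV.mono {d d' : ℕ} {u : U → W} (h : DegV F d u) (hd : d ≤ d') : DegV F d' u := fun φ => (h φ).mono hd

theorem DegV.congr {d : ℕ} {u u' : U → W} (h : DegV F d u) (e : ∀ t, u' t = u t) : DegV F d u' :=
  fun φ => (h φ).congr fun t => by rw [e]

theorem DegV.add {d : ℕ} {u u' : U → W} (h : DegV F d u) (h' : DegV F d u') : DegV F d fun t => u t + u' t :=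
  fun φ => ((h φ).add (h' φ)).congr fun t => map_add φ _ _

theorem DegV.sub {d : ℕ} {u u' : U → W} (h : DegV F d u) (h' : DegV F d u') : DegV F d fun t => u t - u' t :=
  fun φ => ((h φ).add (h' (-φ))).congr fun t => by rw [LinearMap.neg_apply, map_sub, sub_eq_add_neg]

theorem DegV.comp {W' : Type*} [AddCommGroup W'] [Module F W'] {d : ℕ} {u : U → W} (h : DegV F d u)
    (L : W →ₗ[F] W') : DegV F d fun t => L (u t) := fun φ => h (φ.comp L)

theorem DegV.linear (L : U →ₗ[F] W) : DegV F 1 fun t => L t := fun φ => Deg.linear (φ.comp L)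

/-- a bilinear map of two functions -/
theorem DegV.bilin {A B : Type*} [AddCommGroup A] [Module F A] [FiniteDimensional F A] [AddCommGroup B] [Module F B]
    {d d' : ℕ} {u : U → A} {u' : U → B} (h : DegV F d u) (h' : DegV F d' u') (m : A →ₗ[F] B →ₗ[F] W) :
    DegV F (d + d') fun t => m (u t) (u' t) := fun φ => by
  set b := Module.finBasis F A
  refine (Deg.sum Finset.univ (g := fun i t => b.coord i (u t) * φ (m (b i) (u' t))) fun i _ =>
    (h (b.coord i)).mul (h' (φ.comp (m (b i))))).congr fun t => ?_
  show φ (m (u t) (u' t)) = _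
  conv_lhs => rw [← b.sum_repr (u t), map_sum, LinearMap.sum_apply, map_sum]
  exact Finset.sum_congr rfl fun i _ => by
    rw [map_smul, LinearMap.smul_apply, map_smul, smul_eq_mul, Basis.coord_apply]

variable [Fintype F] [Fintype U]

/-- the sum over the space of a function of small degree vanishes -/
theorem DegV.sum_eq_zero {d : ℕ} {u : U → W} (h : DegV F d u)
    (hd : d < (Fintype.card F - 1) * finrank F U) : ∑ t, u t = 0 := by
  refine (Module.forall_dual_apply_eq_zero_iff F _).1 fun φ => ?_
  obtain ⟨P, hP, hg⟩ := h φ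
  rw [map_sum]
  simp only [hg]
  refine Eq.trans ?_ (MvPolynomial.sum_eval_eq_zero P (by rw [Fintype.card_fin]; omega))
  exact Equiv.sum_comp (Module.finBasis F U).equivFun.toEquiv fun x => eval x P

end Cfsg.Agent.ClassicalMax.ExtOrth3.Deg3
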