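import Cfsg.Agent.ClassicalMax.ExtOrth3.Deg3.Stab
import Cfsg.Agent.ClassicalMax.ExtOrth3.Deg3.Poly

/-!
An overgroup without root elements is semilinear.

The volume form over `K`, summed over the cosets of the linear commutator subgroup, is invariant under the overgroup.
The cosets that are not semilinear fall into free orbits of a root group, over each of which the sum vanishes by
degree, at least when one argument lies in the orthogonal of the cone vector; so only the semilinear cosets remain and
they give a non-zero additive function of the volume, whose vanishing pattern is dependence over `K`.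
-/

set_option autoImplicit false
set_option linter.unusedSectionVars false
set_option linter.style.haveILetI false

namespace Cfsg.Agent.ClassicalMax.ExtOrth3.Deg3

open Module QuadraticMap Cfsg.Agent.Classical Cfsg.Agent.Classical.Quad

/-- a function whose sums over all free orbits vanish -/
theorem sum_free_orbits {X G M : Type*} [AddCommGroup G] [Fintype G] [AddCommMonoid M] [DecidableEq X]
    (act : G → X → X) (hadd : ∀ a b x, act (a + b) x = act a (act b x)) (h0 : ∀ x, act 0 x = x) (s : Finset X)
    (hs : ∀ g, ∀ x ∈ s, act g x ∈ s) (hfree : ∀ x ∈ s, Function.Injective fun g => act g x) (f : X → M)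
    (hf : ∀ x ∈ s, ∑ g, f (act g x) = 0) : ∑ x ∈ s, f x = 0 := by
  classical
  let orb : X → Finset X := fun x => Finset.univ.image fun g => act g x
  rw [← Finset.sum_fiberwise_of_maps_to (t := s.image orb) fun x hx => Finset.mem_image_of_mem orb hx]
  refine Finset.sum_eq_zero fun o ho => ?_
  obtain ⟨x, hx, rfl⟩ := Finset.mem_image.1 ho
  have he : s.filter (fun z => orb z = orb x) = orb x := by
    ext z
    simp only [Finset.mem_filter, orb, Finset.mem_image, Finset.mem_univ, true_and]
    constructor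
    · rintro ⟨-, h⟩
      have hz : z ∈ Finset.univ.image fun g => act g x :=
        h ▸ Finset.mem_image.2 ⟨0, Finset.mem_univ _, h0 z⟩
      simpa using hz
    · rintro ⟨g, rfl⟩
      refine ⟨hs g x hx, ?_⟩
      ext u
      simp only [Finset.mem_image, Finset.mem_univ, true_and, ← hadd]
      exact ⟨fun ⟨k, hk⟩ => ⟨k + g, hk⟩, fun ⟨k, hk⟩ => ⟨k - g, by rw [sub_add_cancel, hk]⟩⟩
  rw [he, Finset.sum_image fun a _ b _ h => hfree x hx h]
  exact hf x hx

variable {F K V : Type*} [Field F] [Field K] [Algebra F K] [AddCommGroup V] [Module F V] [Module K V]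
  [IsScalarTower F K V] [Finite K] [Finite F] {Q : QuadraticForm F V} {QK : QuadraticForm K V} {l : K →ₗ[F] F}
  {H : Subgroup (oG Q)} {v y w : V}

/-- the volume form in the coordinates of a frame -/
noncomputable def vol (QK : QuadraticForm K V) (v y w a b c : V) : K :=
  polar QK v a * (polar QK y b * polar QK w c - polar QK y c * polar QK w b)
    - polar QK y a * (polar QK v b * polar QK w c - polar QK v c * polar QK w b)
    + polar QK w a * (polar QK v b * polar QK y c - polar QK v c * polar QK y b)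

theorem vol_frame (fr : Frame QK v y w) : vol QK v y w v y w = -(2 * QK w) := by
  simp only [vol, polar_self', fr.hv, fr.hy, fr.hvy, fr.hvw, fr.hyw, polar_comm QK y v, polar_comm QK w v,
    polar_comm QK w y]
  ring

theorem vol_semilin (hS : Setting Q QK l) (fr : Frame QK v y w) {g : oG Q} {σ : K →ₐ[F] K}
    (hg : ∀ (k : K) (x : V), g.1 (k • x) = σ k • g.1 x) (a b c : V) :
    vol QK v y w (g.1 a) (g.1 b) (g.1 c) =
      vol QK v y w (g.1 v) (g.1 y) (g.1 w) * σ (vol QK v y w a b c / -(2 * QK w)) := by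
  have h2 : (2 * QK w) ≠ 0 := mul_ne_zero hS.twoK fr.hw
  have e : ∀ x, g.1 x = σ (polar QK y x) • g.1 v + σ (polar QK v x) • g.1 y + σ (polar QK w x / (2 * QK w)) • g.1 w :=
    fun x => by conv_lhs => rw [fr.decomp hS x, map_add, map_add, hg, hg, hg]
  have eD : vol QK v y w a b c / -(2 * QK w) =
      -(polar QK v a * (polar QK y b * (polar QK w c / (2 * QK w)) - polar QK y c * (polar QK w b / (2 * QK w)))
        - polar QK y a * (polar QK v b * (polar QK w c / (2 * QK w)) - polar QK v c * (polar QK w b / (2 * QK w)))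
        + polar QK w a / (2 * QK w) * (polar QK v b * polar QK y c - polar QK v c * polar QK y b)) := by
    rw [vol]
    field_simp
  rw [eD]
  simp only [vol, e a, e b, e c, polar_add_right, polar_smul_right, smul_eq_mul, map_neg, map_add, map_sub, map_mul]
  ring

theorem vol_linear (hS : Setting Q QK l) (fr : Frame QK v y w) (k : oG QK) (a b c : V) :
    vol QK v y w (k.1 a) (k.1 b) (k.1 c) = LinearMap.det (k.1 : V →ₗ[K] V) * vol QK v y w a b c := by
  classical
  haveI := hS.finV
  have h2 : (2 * QK w) ≠ 0 := mul_ne_zero hS.twoK fr.hw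
  have hg : ∀ (t : K) (x : V), (res hS k).1 (t • x) = AlgHom.id F K t • (res hS k).1 x := fun t x => map_smul k.1 t x
  have h1 := vol_semilin hS fr hg a b c
  simp only [res_apply, AlgHom.id_apply] at h1
  rw [h1, mul_div, div_eq_iff (neg_ne_zero.2 h2)]
  have hli : LinearIndependent K ![v, y, w] := by
    rw [Fintype.linearIndependent_iff]
    intro g hg
    have e : g 0 • v + g 1 • y + g 2 • w = 0 := by simpa [Fin.sum_univ_three] using hg
    obtain ⟨e1, e2, e3, -⟩ := fr.eval (g 0) (g 1) (g 2)
    rw [e] at e1 e2 e3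
    simp only [polar_zero_right] at e1 e2 e3
    have e4 : g 2 = 0 := (mul_eq_zero.1 e3.symm).resolve_left h2
    intro i
    fin_cases i <;> simp [← e1, ← e2, e4]
  let bK := basisOfLinearIndependentOfCardEqFinrank hli (by rw [hS.three]; rfl)
  have hrepr : ∀ x i, bK.repr x i = ![polar QK y x, polar QK v x, polar QK w x / (2 * QK w)] i := fun x i => by
    have e : x = ∑ j, ![polar QK y x, polar QK v x, polar QK w x / (2 * QK w)] j • bK j := by
      simp only [bK, coe_basisOfLinearIndependentOfCardEqFinrank, Fin.sum_univ_three, Matrix.cons_val_zero,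
        Matrix.cons_val_one, Matrix.cons_val]
      exact fr.decomp hS x
    conv_lhs => rw [e, Basis.repr_sum_self]
  suffices hd : vol QK v y w (k.1 v) (k.1 y) (k.1 w) = LinearMap.det (k.1 : V →ₗ[K] V) * -(2 * QK w) by
    rw [hd]; ring
  rw [← LinearMap.det_toMatrix bK, Matrix.det_fin_three]
  simp only [LinearMap.toMatrix_apply, hrepr, LinearEquiv.coe_coe, bK, coe_basisOfLinearIndependentOfCardEqFinrank,
    Matrix.cons_val_zero, Matrix.cons_val_one, Matrix.cons_val, vol]
  have := fr.hw
  have := hS.twoK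
  field_simp
  ring

/-- a non-zero vector and one with vanishing volume form against it are dependent -/
theorem dep_of_vol (hS : Setting Q QK l) (fr : Frame QK v y w) {a b : V} (ha : a ≠ 0)
    (h : ∀ c, vol QK v y w a b c = 0) : b ∈ K ∙ a := by
  have h2 : (2 * QK w) ≠ 0 := mul_ne_zero hS.twoK fr.hw
  have e1 := h v
  have e2 := h y
  have e3 := h w
  simp only [vol, polar_self', fr.hv, fr.hy, fr.hvy, fr.hvw, fr.hyw, polar_comm QK y v, polar_comm QK w v,
    polar_comm QK w y] at e1 e2 e3
  have E1 : polar QK v a * polar QK w b - polar QK w a * polar QK v b = 0 := by linear_combination -e1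
  have E2 : polar QK y a * polar QK w b - polar QK w a * polar QK y b = 0 := by linear_combination e2
  have E3 : polar QK v a * polar QK y b - polar QK y a * polar QK v b = 0 :=
    mul_left_cancel₀ h2 (by linear_combination e3)
  have key : ∀ r : K, polar QK v b = r * polar QK v a → polar QK y b = r * polar QK y a →
      polar QK w b = r * polar QK w a → b ∈ K ∙ a := fun r f1 f2 f3 => by
    refine Submodule.mem_span_singleton.2 ⟨r, sub_eq_zero.1 ?_⟩
    rw [fr.decomp hS (r • a - b)]
    simp [polar_sub_right, polar_smul_right, f1, f2, f3]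
  rcases eq_or_ne (polar QK v a) 0 with hva | hva
  · rcases eq_or_ne (polar QK y a) 0 with hya | hya
    · have hwa : polar QK w a ≠ 0 := fun e => ha (by
        rw [fr.decomp hS a, hva, hya, e, zero_div, zero_smul, zero_smul, zero_smul, add_zero, add_zero])
      rw [hva] at E1
      rw [hya] at E2
      refine key (polar QK w b / polar QK w a) ?_ ?_ (div_mul_cancel₀ _ hwa).symm
      · rw [hva, mul_zero]
        exact (mul_eq_zero.1 (show polar QK w a * polar QK v b = 0 by linear_combination -E1)).resolve_left hwa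
      · rw [hya, mul_zero]
        exact (mul_eq_zero.1 (show polar QK w a * polar QK y b = 0 by linear_combination -E2)).resolve_left hwa
    · refine key (polar QK y b / polar QK y a) ?_ (div_mul_cancel₀ _ hya).symm ?_ <;> field_simp
      · linear_combination -E3
      · linear_combination E2
  · refine key (polar QK v b / polar QK v a) (div_mul_cancel₀ _ hva).symm ?_ ?_ <;> field_simp
    · linear_combination E3
    · linear_combination E1

theorem vol_dep (a c : V) (k : K) : vol QK v y w a (k • a) c = 0 := by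
  simp only [vol, polar_smul_right, smul_eq_mul]
  ring

theorem sq_sep (hS : Setting Q QK l) {r : K} (h : ∀ a : K, l (a * a * r) = 0) : r = 0 := by
  refine hS.sep0 fun c => ?_
  have h1 := h (c + 1)
  rw [show (c + 1) * (c + 1) * r = c * c * r + ((2 : F) • (c * r) + 1 * 1 * r) by
    rw [Algebra.smul_def, map_ofNat]; ring, map_add, map_add, h, h, map_smul, zero_add, add_zero, smul_eq_mul] at h1
  exact (mul_eq_zero.1 h1).resolve_left hS.two

/-- the linear isometries of determinant one form at most two classes modulo the commutator subgroup -/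
theorem relIndex_det (hS : Setting Q QK l) :
    (commutator (oG QK)).relIndex (LinearEquiv.det.comp (oG QK).subtype).ker ≤ 2 ∧
      commutator (oG QK) ≤ (LinearEquiv.det.comp (oG QK).subtype).ker := by
  haveI := hS.finV
  haveI : Finite V := Module.finite_of_finite K
  set d := LinearEquiv.det.comp (oG QK).subtype
  have hle : commutator (oG QK) ≤ d.ker := Abelianization.commutator_subset_ker d
  refine ⟨?_, hle⟩
  have h1 := Subgroup.relIndex_mul_index hle
  rw [index_commutator_odd hS.nd hS.twoK (by rw [hS.three]; norm_num)] at h1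
  have h2 : d.ker.index ≠ 1 := fun e => by
    rw [Subgroup.index_eq_one] at e
    obtain ⟨y', w', fr⟩ := hS.exists_frame hS.exists_cone.choose_spec.1 hS.exists_cone.choose_spec.2
    have hm : (rO fr.hw) ∈ d.ker := e ▸ Subgroup.mem_top _
    have h3 := detG_refl hS fr
    apply h3
    have hdet : LinearMap.det ((rO fr.hw).1 : V →ₗ[K] V) = 1 := by
      rw [← LinearEquiv.coe_det]; exact congrArg Units.val hm
    refine Units.ext ?_
    show ((LinearEquiv.det ((res hS (rO fr.hw)).1) : Fˣ) : F) = 1
    rw [LinearEquiv.coe_det, show ((res hS (rO fr.hw)).1 : V →ₗ[F] V) =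
      ((rO fr.hw).1 : V →ₗ[K] V).restrictScalars F from rfl, LinearMap.det_restrictScalars, hdet, map_one]
  have h0 : d.ker.index ≠ 0 := Subgroup.index_ne_zero_of_finite
  have h3 : 2 ≤ d.ker.index := by omega
  have := Nat.mul_le_mul_left ((commutator (oG QK)).relIndex d.ker) h3
  omega

namespace Hyp

variable {hS : Setting Q QK l}

/-- a linear element of the commutator subgroup has determinant one -/
theorem det_eq_one [FiniteDimensional F V] (hh : Hyp hS H) {k : oG QK} (hk : res hS k ∈ H) :
    k ∈ (LinearEquiv.det.comp (oG QK).subtype).ker := by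
  haveI := hS.finV
  haveI : Finite V := Module.finite_of_finite F
  set d := LinearEquiv.det.comp (oG QK).subtype
  have hsq : d k * d k = 1 := by
    rw [← map_mul]
    exact MonoidHom.mem_ker.1 ((relIndex_det hS).2 (Exc.sq_mem_commutator hS.nd hS.twoK (by rw [hS.three]; norm_num) k))
  have hN : LinearMap.det ((res hS k).1 : V →ₗ[F] V) = 1 := by
    have h1 := MonoidHom.mem_ker.1 (Abelianization.commutator_subset_ker (detG Q) (hh.le hk))
    rw [← LinearEquiv.coe_det]
    exact congrArg Units.val h1
  rw [show ((res hS k).1 : V →ₗ[F] V) = (k.1 : V →ₗ[K] V).restrictScalars F from rfl,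
    LinearMap.det_restrictScalars] at hN
  have hd : ((d k : Kˣ) : K) = LinearMap.det (k.1 : V →ₗ[K] V) := LinearEquiv.coe_det _
  rw [MonoidHom.mem_ker, Units.ext_iff, hd]
  have h1 : LinearMap.det (k.1 : V →ₗ[K] V) * LinearMap.det (k.1 : V →ₗ[K] V) = 1 := by
    rw [← hd, ← Units.val_mul, hsq, Units.val_one]
  rcases mul_self_eq_one_iff.1 h1 with h | h
  · exact h
  · exfalso
    rw [h, show (-1 : K) = algebraMap F K (-1) by rw [map_neg, map_one], Algebra.norm_algebraMap, hh.deg] at hN
    exact hS.two (by linear_combination -hN)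

set_option maxHeartbeats 1000000 in
/-- an overgroup without root elements is semilinear -/
theorem sl_all [FiniteDimensional F V] (hh : Hyp hS H) {g : oG Q} (hg : g ∈ H) : SL K g := by
  classical
  haveI := hS.fin
  haveI := hS.finV
  haveI := Fintype.ofFinite F
  haveI := Fintype.ofFinite K
  haveI : Finite V := Module.finite_of_finite F
  haveI : Finite (V ≃ₗ[F] V) := Finite.of_injective (fun g : V ≃ₗ[F] V => (g : V → V)) DFunLike.coe_injective
  haveI : Finite (oG Q) := Subtype.finite
  haveI : Finite (oG QK) := by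
    haveI : Finite (V ≃ₗ[K] V) := Finite.of_injective (fun g : V ≃ₗ[K] V => (g : V → V)) DFunLike.coe_injective
    exact Subtype.finite
  obtain ⟨v, hv0, hv⟩ := hS.exists_cone
  obtain ⟨y, w, fr⟩ := hS.exists_frame hv0 hv
  have hvol0 : -(2 * QK w) ≠ 0 := neg_ne_zero.2 (mul_ne_zero hS.twoK fr.hw)
  set R : Subgroup H := ((commutator (oG QK)).map (res hS)).subgroupOf H
  haveI := Fintype.ofFinite (H ⧸ R)
  have hR : ∀ r : H, r ∈ R → ∃ k ∈ commutator (oG QK), res hS k = (r : oG Q) := fun r hr =>
    Subgroup.mem_map.1 (Subgroup.mem_subgroupOf.1 hr)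
  have hinv : ∀ k ∈ commutator (oG QK), ∀ a b c : V,
      vol QK v y w (k.1 a) (k.1 b) (k.1 c) = vol QK v y w a b c := fun k hk a b c => by
    have := MonoidHom.mem_ker.1 ((relIndex_det hS).2 hk)
    rw [vol_linear hS fr, ← LinearEquiv.coe_det, show LinearEquiv.det k.1 = 1 from this, Units.val_one, one_mul]
  let P : H → V → V → V → K := fun h a b c =>
    vol QK v y w (((h : oG Q)⁻¹).1 a) (((h : oG Q)⁻¹).1 b) (((h : oG Q)⁻¹).1 c)
  have hP : ∀ h h' : H, (h : H ⧸ R) = h' → ∀ a b c, P h a b c = P h' a b c := fun h h' e a b c => by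
    obtain ⟨k, hk, hkr⟩ := hR _ (QuotientGroup.eq.1 e)
    have e' : ∀ x, ((h' : oG Q)⁻¹).1 x = (k⁻¹).1 (((h : oG Q)⁻¹).1 x) := fun x => by
      have : ((h' : oG Q))⁻¹ = (res hS k)⁻¹ * (h : oG Q)⁻¹ := by
        rw [hkr, Subgroup.coe_mul, Subgroup.coe_inv, _root_.mul_inv_rev, inv_inv, mul_assoc, mul_inv_cancel, mul_one]
      rw [this, oG_mul_apply, res_inv_apply]
    simp only [P, e']
    rw [hinv _ (inv_mem hk)]
  let Φ : V → V → V → K := fun a b c => ∑ x : H ⧸ R, P x.out a b c
  have hΦ : ∀ (u : H) a b c, Φ ((u : oG Q).1 a) ((u : oG Q).1 b) ((u : oG Q).1 c) = Φ a b c := fun u a b c => by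
    refine Fintype.sum_equiv (MulAction.toPerm u⁻¹) _ _ fun x => ?_
    rw [MulAction.toPerm_apply, ← hP (u⁻¹ * x.out) (u⁻¹ • x).out (by
      rw [QuotientGroup.out_eq', ← smul_eq_mul, MulAction.Quotient.mk_smul_out])]
    simp only [P, Subgroup.coe_mul, Subgroup.coe_inv, _root_.mul_inv_rev, inv_inv, oG_mul_apply]
    rfl
  -- semilinearity of a coset
  have hsemi : ∀ h h' : H, (h : H ⧸ R) = h' → Semilin K (h : oG Q) → Semilin K (h' : oG Q) := fun h h' e hs => by
    obtain ⟨k, -, hkr⟩ := hR _ (QuotientGroup.eq.1 e)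
    have : (h' : oG Q) = (h : oG Q) * res hS k := by
      rw [hkr, Subgroup.coe_mul, Subgroup.coe_inv, mul_inv_cancel_left]
    rw [this]
    exact hs.mul (semilin_res hS k)
  let B : Finset (H ⧸ R) := Finset.univ.filter fun x => Semilin K (x.out : oG Q)
  let Δ : V → V → V → K := fun a b c => ∑ x ∈ Finset.univ.filter (fun x : H ⧸ R => ¬ Semilin K (x.out : oG Q)),
    P x.out a b c
  have hsplit : ∀ a b c, Φ a b c = (∑ x ∈ B, P x.out a b c) + Δ a b c := fun a b c =>
    (Finset.sum_filter_add_sum_filter_not Finset.univ _ _).symm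
  -- the semilinear part
  have hσ : ∀ x : B, ∃ σ : K →ₐ[F] K, ∀ (k : K) (z : V), (((x : H ⧸ R).out : oG Q)⁻¹).1 (k • z) =
      σ k • (((x : H ⧸ R).out : oG Q)⁻¹).1 z := fun x => (Finset.mem_filter.1 x.2).2.inv
  choose σ hσ using hσ
  let D : B → K := fun x => P (x : H ⧸ R).out v y w
  let T : K → K := fun r => ∑ x : B, D x * σ x (r / -(2 * QK w))
  have hbase : ∀ a b c, ∑ x ∈ B, P x.out a b c = T (vol QK v y w a b c) := fun a b c => by
    rw [← Finset.sum_coe_sort B]
    exact Finset.sum_congr rfl fun x _ => vol_semilin hS fr (hσ x) a b c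
  -- the rest vanishes on the orthogonal of a cone vector
  let U : K → H := fun t => ⟨tr hS fr t, tr_mem hS fr hh.hle t⟩
  have hUadd : ∀ s t, U (s + t) = U s * U t := fun s t => Subtype.ext (tr_add hS fr s t).symm
  have hU0 : U 0 = 1 := Subtype.ext (tr_zero hS fr)
  set C : Finset (H ⧸ R) := Finset.univ.filter (fun x : H ⧸ R => ¬ Semilin K (x.out : oG Q))
  have hCst : ∀ t, ∀ x ∈ C, U t • x ∈ C := fun t x hx => by
    simp only [C, Finset.mem_filter, Finset.mem_univ, true_and] at hx ⊢
    intro hs
    have h1 := hsemi _ (U t * x.out) (by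
      rw [QuotientGroup.out_eq', ← smul_eq_mul, MulAction.Quotient.mk_smul_out]) hs
    rw [Subgroup.coe_mul, show ((U t : H) : oG Q) = res hS (sO fr.hv (polar_perp_smul fr.hvw t)) from rfl] at h1
    have h2 := (semilin_res hS (sO fr.hv (polar_perp_smul fr.hvw t))).inv.mul h1
    rw [inv_mul_cancel_left] at h2
    exact hx h2
  have hfree : ∀ x ∈ C, Function.Injective fun t => U t • x := fun x hx s t e => by
    by_contra hst
    simp only [C, Finset.mem_filter, Finset.mem_univ, true_and] at hx
    have h1 : U (-t + s) • x = x := by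
      rw [hUadd, mul_smul, show U s • x = U t • x from e, ← mul_smul, ← hUadd, neg_add_cancel, hU0, one_smul]
    rw [← QuotientGroup.out_eq' x, MulAction.Quotient.smul_coe, smul_eq_mul, eq_comm, QuotientGroup.eq] at h1
    obtain ⟨k, -, hk⟩ := hR _ h1
    exact hx (hh.semilin_of_conj fr x.out.2 (t := -t + s) (fun e0 => hst (by
      rw [neg_add_eq_zero] at e0; exact e0.symm)) (k := k) (by
        rw [hk, Subgroup.coe_mul, Subgroup.coe_inv, mul_assoc]; rfl))
  have hsum : ∀ (G : oG Q) (a b c : V), (polar QK v a = 0 ∨ polar QK v b = 0 ∨ polar QK v c = 0) →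
      ∑ t : K, vol QK v y w (G.1 ((tr hS fr t).1 a)) (G.1 ((tr hS fr t).1 b)) (G.1 ((tr hS fr t).1 c)) = 0 := by
    intro G a b c hperp
    have d2 : ∀ x, DegV F 2 fun t : K => (tr hS fr t).1 x := fun x => by
      refine DegV.congr ?_ fun t => tr_apply hS fr t x
      refine ((DegV.const x 2).add ?_).sub ?_
      · refine DegV.congr ((((DegV.linear (LinearMap.mulRight F (polar QK x w))).mono (by norm_num : 1 ≤ 2)).sub
          (((DegV.linear LinearMap.id).bilin (DegV.linear LinearMap.id) (LinearMap.mul F K)).comp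
            (LinearMap.mulRight F (QK w * polar QK v x)))).comp
              ((LinearMap.toSpanSingleton K V v).restrictScalars F)) fun t => ?_
        simp [mul_assoc]
      · exact (((DegV.linear (LinearMap.mulRight F (polar QK v x))).comp
          ((LinearMap.toSpanSingleton K V w).restrictScalars F)).mono (by norm_num : 1 ≤ 2)).congr fun t => rfl
    have d1 : ∀ x, polar QK v x = 0 → DegV F 1 fun t : K => (tr hS fr t).1 x := fun x hx =>
      ((DegV.const x 1).add (DegV.linear (((LinearMap.toSpanSingleton K V v).restrictScalars F).comp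
        (LinearMap.mulRight F (polar QK x w))))).congr fun t => by rw [tr_perp hS fr t hx]; rfl
    obtain ⟨i, j, k, hijk, da, db, dc⟩ : ∃ i j k, i + j + k ≤ 5 ∧ DegV F i (fun t : K => (tr hS fr t).1 a) ∧
        DegV F j (fun t : K => (tr hS fr t).1 b) ∧ DegV F k (fun t : K => (tr hS fr t).1 c) := by
      rcases hperp with h | h | h
      · exact ⟨1, 2, 2, le_rfl, d1 a h, d2 b, d2 c⟩
      · exact ⟨2, 1, 2, le_rfl, d2 a, d1 b h, d2 c⟩
      · exact ⟨2, 2, 1, le_rfl, d2 a, d2 b, d1 c h⟩
    have co : ∀ (u : V) {d : ℕ} {f : K → V}, DegV F d f → DegV F d fun t => polar QK u (G.1 (f t)) := fun u d f hf =>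
      hf.comp (((polarBilin QK u).restrictScalars F).comp (G.1 : V →ₗ[F] V))
    have m3 : ∀ {d d' d'' : ℕ} {f f' f'' : K → K}, DegV F d f → DegV F d' f' → DegV F d'' f'' → d + d' + d'' ≤ 5 →
        DegV F 5 fun t => f t * (f' t * f'' t) := fun hf hf' hf'' hd =>
      ((hf.bilin (hf'.bilin hf'' (LinearMap.mul F K)) (LinearMap.mul F K)).mono (by omega)).congr fun t => rfl
    have hdeg : DegV F 5 fun t : K =>
        vol QK v y w (G.1 ((tr hS fr t).1 a)) (G.1 ((tr hS fr t).1 b)) (G.1 ((tr hS fr t).1 c)) := by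
      refine DegV.congr ((((m3 (co v da) (co y db) (co w dc) hijk).sub (m3 (co v da) (co y dc) (co w db) (by omega))).sub
        ((m3 (co y da) (co v db) (co w dc) hijk).sub (m3 (co y da) (co v dc) (co w db) (by omega)))).add
        ((m3 (co w da) (co v db) (co y dc) hijk).sub (m3 (co w da) (co v dc) (co y db) (by omega)))) fun t => ?_
      rw [vol]
      ring
    refine hdeg.sum_eq_zero ?_
    rw [hh.deg]
    have h1 : 1 < Fintype.card F := Fintype.one_lt_card
    have h2 : Fintype.card F ≠ 2 := fun e => hS.two (by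
      have := Nat.cast_card_eq_zero F
      rw [e] at this
      exact_mod_cast this)
    omega
  have hΔv : ∀ a b c, (polar QK v a = 0 ∨ polar QK v b = 0 ∨ polar QK v c = 0) → Δ a b c = 0 := fun a b c hperp => by
    refine sum_free_orbits (fun t x => U t • x) (fun s t x => by rw [hUadd, mul_smul])
      (fun x => by rw [hU0, one_smul]) C hCst hfree (fun x => P x.out a b c) fun x _ => ?_
    rw [← Equiv.sum_comp (Equiv.neg K)]
    refine Eq.trans (Finset.sum_congr rfl fun t _ => ?_) (hsum ((x.out : oG Q)⁻¹) a b c hperp)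
    show P (U (-t) • x).out a b c = _
    rw [hP _ (U (-t) * x.out) (by rw [QuotientGroup.out_eq', ← smul_eq_mul, MulAction.Quotient.mk_smul_out])]
    have e : ((U (-t) * x.out : H) : oG Q)⁻¹ = (x.out : oG Q)⁻¹ * tr hS fr t := by
      rw [Subgroup.coe_mul, _root_.mul_inv_rev]
      congr 1
      refine inv_eq_of_mul_eq_one_right ?_
      show tr hS fr (-t) * tr hS fr t = 1
      rw [tr_add, neg_add_cancel, tr_zero]
    simp only [P, e, oG_mul_apply]
  -- the rest vanishes
  have hΔL : ∀ k ∈ commutator (oG QK), ∀ a b c, Δ (k.1 a) (k.1 b) (k.1 c) = Δ a b c := fun k hk a b c => by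
    have h1 := hΦ ⟨res hS k, hh.hle k hk⟩ a b c
    simp only [res_apply] at h1
    rw [hsplit, hsplit, hbase, hbase, hinv k hk] at h1
    exact add_left_cancel h1
  have hΔy : ∀ a b c, (polar QK y a = 0 ∨ polar QK y b = 0 ∨ polar QK y c = 0) → Δ a b c = 0 := by
    obtain ⟨k, hk, t, ht, hkv⟩ := hS.trans fr.v_ne fr.hv fr.y_ne fr.hy
    intro a b c h
    obtain ⟨a', rfl⟩ := k.1.surjective a
    obtain ⟨b', rfl⟩ := k.1.surjective b
    obtain ⟨c', rfl⟩ := k.1.surjective c
    rw [hΔL k hk]
    have e : ∀ x, polar QK y (k.1 x) = 0 → polar QK v x = 0 := fun x hx => by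
      rw [← polar_oG k, hkv, polar_smul_left, hx, smul_zero]
    exact hΔv _ _ _ (h.imp (e _) (Or.imp (e _) (e _)))
  have hΔ : ∀ a b c, Δ a b c = 0 := by
    have hadd : ∀ a a' b c, Δ (a + a') b c = Δ a b c + Δ a' b c ∧ Δ b (a + a') c = Δ b a c + Δ b a' c ∧
        Δ b c (a + a') = Δ b c a + Δ b c a' := fun a a' b c => by
      refine ⟨?_, ?_, ?_⟩ <;>
      · simp only [Δ, P, ← Finset.sum_add_distrib, map_add]
        refine Finset.sum_congr rfl fun x _ => ?_
        simp only [vol, polar_add_right]
        ring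
    have hspl : ∀ x : V, ∃ p q, x = p + q ∧ polar QK v p = 0 ∧ polar QK y q = 0 := fun x =>
      ⟨x - polar QK v x • y, polar QK v x • y, (sub_add_cancel _ _).symm,
        by rw [polar_sub_right, polar_smul_right, fr.hvy, smul_eq_mul, mul_one, sub_self],
        by rw [polar_smul_right, polar_self', fr.hy, mul_zero, smul_zero]⟩
    intro a b c
    obtain ⟨p, q, rfl, hp, hq⟩ := hspl a
    rw [(hadd _ _ _ _).1, hΔv _ _ _ (Or.inl hp), hΔy _ _ _ (Or.inl hq), add_zero]
  -- the semilinear part is not zero
  have hT : ∃ r, T r ≠ 0 := by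
    by_contra! hz
    let τ : B → (K →* K) := fun x => ((σ x : K →+* K) : K →* K)
    let coef : (K →* K) → K := fun f => ∑ x ∈ Finset.univ.filter (fun x => τ x = f), D x
    have hlin : ∑ f ∈ Finset.univ.image τ, coef f • (f : K → K) = 0 := funext fun r => by
      rw [Finset.sum_apply, Pi.zero_apply, ← hz (-(2 * QK w) * r)]
      simp only [T, mul_div_cancel_left₀ _ hvol0, Pi.smul_apply, smul_eq_mul, coef, Finset.sum_mul]
      rw [← Finset.sum_fiberwise_of_maps_to (t := Finset.univ.image τ) (g := τ)
        (fun x hx => Finset.mem_image_of_mem τ hx) (fun x => D x * σ x r)]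
      refine Finset.sum_congr rfl fun f _ => Finset.sum_congr rfl fun x hx => ?_
      rw [← (Finset.mem_filter.1 hx).2]
      rfl
    have h1R : ((1 : H) : H ⧸ R) ∈ B := by
      simp only [B, Finset.mem_filter, Finset.mem_univ, true_and]
      exact hsemi 1 _ (QuotientGroup.out_eq' _).symm semilin_one
    set Z := Finset.univ.filter (fun x : B => τ x = MonoidHom.id K) with hZ
    have hlinx : ∀ x ∈ Z, ∃ k : oG QK, k ∈ (LinearEquiv.det.comp (oG QK).subtype).ker ∧
        res hS k = ((x : H ⧸ R).out : oG Q)⁻¹ := fun x hx => by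
      set g' := (((x : H ⧸ R).out : oG Q))⁻¹
      have hg' : g' ∈ H := inv_mem (x : H ⧸ R).out.2
      have hlin : ∀ (k : K) (z : V), g'.1 (k • z) = k • g'.1 z := fun k z => by
        rw [hσ x k z]
        congr 1
        exact DFunLike.congr_fun (Finset.mem_filter.1 hx).2 k
      let e : V ≃ₗ[K] V := { g'.1 with map_smul' := hlin }
      have he : e ∈ oG QK := fun z => sub_eq_zero.1 (sq_sep hS fun a => by
        rw [mul_sub, map_sub, ← map_smul', ← map_smul', ← hS.eq, ← hS.eq, sub_eq_zero]
        show Q (a • g'.1 z) = Q (a • z)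
        rw [← hlin, g'.2])
      have hres : res hS ⟨e, he⟩ = g' := ext_oG fun z => rfl
      exact ⟨⟨e, he⟩, hh.det_eq_one (by rw [hres]; exact hg'), hres⟩
    choose k hkd hkr using hlinx
    have hD1 : ∀ x ∈ Z, D x = -(2 * QK w) := fun x hx => by
      simp only [D, P, ← hkr x hx, res_apply]
      rw [vol_linear hS fr, ← LinearEquiv.coe_det, show LinearEquiv.det (k x hx).1 = 1 from hkd x hx, Units.val_one,
        one_mul, vol_frame fr]
    have hone : (⟨_, h1R⟩ : B) ∈ Z := by
      rw [hZ, Finset.mem_filter]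
      refine ⟨Finset.mem_univ _, MonoidHom.ext fun r => ?_⟩
      obtain ⟨k', -, hk'⟩ := hR _ (QuotientGroup.eq.1 (QuotientGroup.out_eq' ((1 : H) : H ⧸ R)).symm)
      rw [inv_one, one_mul] at hk'
      have h1 := hσ ⟨_, h1R⟩ r v
      simp only [← hk', res_inv_apply, map_smul] at h1
      have hne : (k'⁻¹).1 v ≠ 0 := fun e => fr.v_ne ((k'⁻¹).1.injective (by rw [e, map_zero]))
      exact (smul_left_injective K hne h1).symm
    let S := (LinearEquiv.det.comp (oG QK).subtype).ker
    let Φ' : {x // x ∈ Z} → S ⧸ (commutator (oG QK)).subgroupOf S := fun x => ((⟨k x.1 x.2, hkd x.1 x.2⟩ : S)⁻¹ : S)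
    have hinj : Function.Injective Φ' := fun a b e => by
      have h1 := Subgroup.mem_subgroupOf.1 (QuotientGroup.eq.1 e)
      simp only [inv_inv, Subgroup.coe_mul, Subgroup.coe_inv] at h1
      refine Subtype.ext (Subtype.ext ?_)
      rw [← QuotientGroup.out_eq' (a.1 : H ⧸ R), ← QuotientGroup.out_eq' (b.1 : H ⧸ R), QuotientGroup.eq,
        Subgroup.mem_subgroupOf]
      refine ⟨_, h1, ?_⟩
      rw [map_mul, map_inv, hkr a.1 a.2, hkr b.1 b.2, inv_inv]
      rfl
    haveI : Fintype (S ⧸ (commutator (oG QK)).subgroupOf S) := Fintype.ofFinite _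
    have hcard := Fintype.card_le_of_injective _ hinj
    rw [Fintype.card_coe, ← Nat.card_eq_fintype_card, ← Subgroup.index_eq_card] at hcard
    have hZ2 : Z.card ≤ 2 := hcard.trans (relIndex_det hS).1
    have hZ1 : 1 ≤ Z.card := Finset.card_pos.2 ⟨_, hone⟩
    have h2 := linearIndependent_iff'.1 (linearIndependent_monoidHom K K) (Finset.univ.image τ) coef hlin (MonoidHom.id K)
      (Finset.mem_image.2 ⟨_, Finset.mem_univ _, (Finset.mem_filter.1 hone).2⟩)
    simp only [coef] at h2
    rw [← hZ, Finset.sum_congr rfl hD1, Finset.sum_const, nsmul_eq_mul, mul_eq_zero] at h2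
    refine h2.elim (fun h => ?_) hvol0
    rcases (show Z.card = 1 ∨ Z.card = 2 by omega) with e | e <;> rw [e] at h
    · simp at h
    · exact hS.twoK (by exact_mod_cast h)
  -- conclusion
  obtain ⟨r, hr⟩ := hT
  intro k x
  rcases eq_or_ne x 0 with rfl | hx
  · simp
  refine dep_of_vol hS fr (fun e => hx (g.1.injective (by rw [e, map_zero]))) fun z => ?_
  by_contra hne
  obtain ⟨s, hs⟩ : ∃ s : K, vol QK v y w (g.1 x) (g.1 (k • x)) (s • z) = r :=
    ⟨r / vol QK v y w (g.1 x) (g.1 (k • x)) z, by
      have e : ∀ s : K, vol QK v y w (g.1 x) (g.1 (k • x)) (s • z) = s * vol QK v y w (g.1 x) (g.1 (k • x)) z :=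
        fun s => by simp only [vol, polar_smul_right, smul_eq_mul]; ring
      rw [e, div_mul_cancel₀ _ hne]⟩
  apply hr
  have h1 := hΦ ⟨g, hg⟩ x (k • x) ((g⁻¹).1 (s • z))
  simp only [oG_apply_inv] at h1
  rw [hsplit, hsplit, hbase, hbase, hΔ, hΔ, add_zero, add_zero, hs, vol_dep] at h1
  rw [h1]
  exact Finset.sum_eq_zero fun x _ => by rw [zero_div, map_zero, mul_zero]

end Hyp

/-- an overgroup with an element that is not semilinear contains all Siegel transformations -/
theorem eo_le_of_nonsemilinear [FiniteDimensional F V] (hS : Setting Q QK l) (h3 : finrank F K = 3)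
    (hle : H ≤ commutator (oG Q)) (hnorm : ∀ h ∈ commutator (oG Q), SL K h → h ∈ H) {g : oG Q} (hg : g ∈ H)
    (hnl : ∃ (k : K) (x : V), g.1 (k • x) ∉ K ∙ g.1 x) : eo Q ≤ H := by
  by_contra hno
  obtain ⟨k, x, hkx⟩ := hnl
  refine hkx ((Hyp.sl_all (hS := hS) ⟨h3, hle, hnorm, fun v hv0 hv ν hν => ?_⟩ hg) k x)
  by_contra hne
  exact hno (eo_of_root hS h3 (le_of_norm hS hnorm) hv0 hv hν hne)

end Cfsg.Agent.ClassicalMax.ExtOrth3.Deg3
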