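import Cfsg.Agent.ClassicalMax.ExtOrth3.Main

/-!
Degree three: a single non-trivial root element inside a cone line gives all of them.

The maps of root elements form an additive group invariant under the squares of the torus; an orbit is so large that
the index in the space of skew maps is at most three, so the squares of the torus act trivially on the quotient, while
some of them move every non-zero skew map.
-/

set_option autoImplicit false
set_option linter.unusedSectionVars false
set_option linter.style.haveILetI false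

namespace Cfsg.Agent.ClassicalMax.ExtOrth3.Deg3

open Module QuadraticMap Cfsg.Agent.Classical Cfsg.Agent.Classical.Quad Cfsg.Agent.ClassicalMax.RootPlanes

variable {F K V : Type*} [Field F] [Field K] [Algebra F K] [AddCommGroup V] [Module F V] [Module K V]
  [IsScalarTower F K V] [Finite K] [Finite F] {Q : QuadraticForm F V} {QK : QuadraticForm K V} {l : K →ₗ[F] F}
  {H : Subgroup (oG Q)} {v y w : V}

variable (l) in
/-- the skew maps of the trace form -/
def Sk : Submodule F (K →ₗ[F] K) where
  carrier := {ν | ∀ a b, l (a * ν b) + l (b * ν a) = 0}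
  zero_mem' := fun a b => by simp
  add_mem' := fun {ν ν'} h h' a b => by
    simp only [LinearMap.add_apply, mul_add, map_add]
    linear_combination h a b + h' a b
  smul_mem' := fun c ν h a b => by
    simp only [LinearMap.smul_apply, mul_smul_comm, map_smul, smul_eq_mul]
    linear_combination c * h a b

/-- the parameters of the root elements in `H` inside the line of `v` -/
def par (hv : QK v = 0) (H : Subgroup (oG Q)) : AddSubgroup (K →ₗ[F] K) where
  carrier := {ν | ∃ o, IsRoot QK H v ν o}
  zero_mem' := ⟨1, one_mem H, fun x => by simp [oG_one_apply]⟩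
  add_mem' := fun {ν ν'} ⟨o, ho, e⟩ ⟨o', ho', e'⟩ => ⟨o * o', mul_mem ho ho', fun x => by
    rw [oG_mul_apply, e', e, polar_add_right, polar_smul_right, polar_self', hv,
      mul_zero, smul_zero, add_zero, LinearMap.add_apply, add_smul]
    abel⟩
  neg_mem' := fun {ν} ⟨o, ho, e⟩ => ⟨o⁻¹, inv_mem ho, fun x => o.1.injective (by
    rw [oG_apply_inv, e, polar_add_right, polar_smul_right, polar_self', hv, mul_zero, smul_zero, add_zero,
      LinearMap.neg_apply, neg_smul]
    abel)⟩

/-- the action of a square of the torus on the parameters -/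
def rho (c : K) (ν : K →ₗ[F] K) : K →ₗ[F] K :=
  (LinearMap.mulLeft F (c * c)).comp (ν.comp (LinearMap.mulLeft F (c * c)))

theorem rho_apply (c : K) (ν : K →ₗ[F] K) (x : K) : rho c ν x = c * c * ν (c * c * x) := rfl

theorem rho_rho (c d : K) (ν : K →ₗ[F] K) : rho c (rho d ν) = rho (c * d) ν := LinearMap.ext fun x => by
  simp only [rho_apply]
  rw [show c * d * (c * d) = c * c * (d * d) by ring]
  rw [show d * d * (c * c * x) = c * c * (d * d) * x by ring]
  ring

theorem rho_one (ν : K →ₗ[F] K) : rho 1 ν = ν := LinearMap.ext fun x => by simp [rho_apply]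

theorem rho_sub (c : K) (ν ν' : K →ₗ[F] K) : rho c (ν - ν') = rho c ν - rho c ν' := LinearMap.ext fun x => by
  simp only [rho_apply, LinearMap.sub_apply, mul_sub]

theorem rho_sk (c : K) {ν : K →ₗ[F] K} (h : ν ∈ Sk l) : rho c ν ∈ Sk l := fun a b => by
  have h1 := h (c * c * a) (c * c * b)
  simp only [rho_apply]
  rw [show a * (c * c * ν (c * c * b)) = c * c * a * ν (c * c * b) by ring,
    show b * (c * c * ν (c * c * a)) = c * c * b * ν (c * c * a) by ring]
  exact h1

theorem par_sk (hS : Setting Q QK l) (fr : Frame QK v y w) {ν : K →ₗ[F] K} (h : ν ∈ par fr.hv H) : ν ∈ Sk l := by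
  obtain ⟨o, ho⟩ := h
  exact fun a b => ho.skew hS fr a b

theorem par_move (hS : Setting Q QK l) (hle : Le hS H) (hv : QK v = 0) {ν : K →ₗ[F] K} (h : ν ∈ par hv H) {k : oG QK}
    (hk : k ∈ commutator (oG QK)) {v' : V} (hv' : QK v' = 0) {t : K} (ht : t ≠ 0) (hkv : k.1 v = t • v') :
    (LinearMap.mulLeft F t).comp (ν.comp (LinearMap.mulLeft F t)) ∈ par hv' H := by
  obtain ⟨o, ho, e⟩ := h
  refine ⟨res hS k * o * (res hS k)⁻¹, mul_mem (mul_mem (hle k hk) ho) (inv_mem (hle k hk)), fun x => ?_⟩
  simp only [LinearMap.comp_apply, LinearMap.mulLeft_apply]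
  rw [oG_mul_apply, oG_mul_apply, e, map_add, oG_apply_inv, res_inv_apply, res_apply, map_smul, ← polar_oG k v,
    oG_apply_inv, hkv, polar_smul_left, smul_eq_mul, smul_smul, mul_comm _ t]

theorem par_rho (hS : Setting Q QK l) (hle : Le hS H) (fr : Frame QK v y w) {ν : K →ₗ[F] K} (h : ν ∈ par fr.hv H)
    {c : K} (hc : c ≠ 0) : rho c ν ∈ par fr.hv H := by
  obtain ⟨k, hk, hkv, -, -⟩ := hS.torus fr hc
  exact par_move hS hle fr.hv h hk fr.hv (mul_ne_zero hc hc) hkv

section Three

variable (hS : Setting Q QK l) (h3 : finrank F K = 3)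
include hS h3

/-- the kernel of a non-zero skew map is a line -/
theorem ker_line {ν : K →ₗ[F] K} (h : ν ∈ Sk l) (h0 : ν ≠ 0) {k k' : K} (hk0 : k ≠ 0) (hk : ν k = 0)
    (hk' : ν k' = 0) : ∃ f : F, f • k = k' := by
  haveI := hS.fin
  by_contra hne
  push Not at hne
  have hlt : (F ∙ k) < Submodule.span F ({k, k'} : Set K) :=
    lt_of_le_of_ne (Submodule.span_mono (by simp)) fun e => by
      obtain ⟨f, hf⟩ := Submodule.mem_span_singleton.1 (e.symm ▸ Submodule.subset_span (Or.inr rfl) : k' ∈ (F ∙ k))
      exact hne f hf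
  set U := Submodule.span F ({k, k'} : Set K)
  have hU := Submodule.finrank_lt_finrank_of_lt hlt
  rw [finrank_span_singleton hk0] at hU
  have hνU : ∀ x ∈ U, ν x = 0 := fun x hx => by
    obtain ⟨a, b, rfl⟩ := Submodule.mem_span_pair.1 hx
    rw [map_add, map_smul, map_smul, hk, hk', smul_zero, smul_zero, add_zero]
  refine h0 (LinearMap.ext fun z => ?_)
  rw [LinearMap.zero_apply]
  by_cases hz : z ∈ U
  · exact hνU z hz
  have hltz : U < U ⊔ (F ∙ z) := lt_of_le_of_ne le_sup_left fun e =>
    hz (e.symm ▸ Submodule.mem_sup_right (Submodule.mem_span_singleton_self z))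
  have hz' := Submodule.finrank_lt_finrank_of_lt hltz
  have hle := Submodule.finrank_le (U ⊔ (F ∙ z))
  have htop : U ⊔ (F ∙ z) = ⊤ := Submodule.eq_top_of_finrank_eq (by omega)
  refine hS.sep0 fun c => ?_
  obtain ⟨u, hu, f', hf', e⟩ := Submodule.mem_sup.1 (htop.symm ▸ Submodule.mem_top : c ∈ U ⊔ (F ∙ z))
  obtain ⟨f, rfl⟩ := Submodule.mem_span_singleton.1 hf'
  have h1 := h u z
  rw [hνU u hu, mul_zero, map_zero, add_zero] at h1
  have h2 : l (z * ν z) = 0 := by
    have := h z z
    rw [← two_mul] at this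
    exact (mul_eq_zero.1 this).resolve_left hS.two
  rw [← e, add_mul, smul_mul_assoc, map_add, map_smul, h1, h2, smul_zero, add_zero]

/-- a torus element fixing a non-zero skew map -/
theorem fix_rho {ν : K →ₗ[F] K} (h : ν ∈ Sk l) (h0 : ν ≠ 0) {c : K} (hc : c ≠ 0) (he : rho c ν = ν) :
    c ^ 4 = 1 := by
  obtain ⟨k, hk0, hk⟩ := exists_ker hS h
  have hck : ν (c * c * k) = 0 := by
    have h1 := LinearMap.congr_fun he k
    rw [rho_apply, hk, mul_eq_zero] at h1
    exact h1.resolve_left (mul_ne_zero hc hc)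
  obtain ⟨f, hf⟩ := ker_line hS h3 h h0 hk0 hk hck
  have hcf : c * c = algebraMap F K f := mul_right_cancel₀ hk0 (by rw [← hf, Algebra.smul_def])
  obtain ⟨x, hx⟩ : ∃ x, ν x ≠ 0 := by
    by_contra! h'
    exact h0 (LinearMap.ext h')
  have h1 := LinearMap.congr_fun he x
  rw [rho_apply, hcf, ← Algebra.smul_def f x, map_smul, Algebra.smul_def, ← mul_assoc, ← hcf] at h1
  rw [show c ^ 4 = c * c * (c * c) by ring]
  exact mul_right_cancel₀ hx (by rw [h1, one_mul])

theorem card_sk : Nat.card (Sk l) ≤ Nat.card K := by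
  haveI := hS.fin
  let e := Module.finBasisOfFinrankEq F K h3
  have hinj : Function.Injective fun ν : Sk l => ∑ i : Fin 3,
      ![l (e 0 * ν.1 (e 1)), l (e 0 * ν.1 (e 2)), l (e 1 * ν.1 (e 2))] i • e i := by
    intro ν ν' he
    have key : ∀ i, ![l (e 0 * ν.1 (e 1)), l (e 0 * ν.1 (e 2)), l (e 1 * ν.1 (e 2))] i =
        ![l (e 0 * ν'.1 (e 1)), l (e 0 * ν'.1 (e 2)), l (e 1 * ν'.1 (e 2))] i := fun i => by
      have := congrArg (fun x => ⇑(e.repr x)) he
      simp only [Basis.repr_sum_self] at this
      exact congrFun this i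
    have k0 := key 0
    have k1 := key 1
    have k2 := key 2
    simp only [Matrix.cons_val_zero, Matrix.cons_val_one, Matrix.cons_val] at k0 k1 k2
    set δ := ν.1 - ν'.1
    have hδ : δ ∈ Sk l := (Sk l).sub_mem ν.2 ν'.2
    have hd : ∀ i j, l (e i * δ (e j)) = 0 := by
      have hsk := hδ
      have diag : ∀ i, l (e i * δ (e i)) = 0 := fun i => by
        have := hsk (e i) (e i)
        rw [← two_mul] at this
        exact (mul_eq_zero.1 this).resolve_left hS.two
      have up : l (e 0 * δ (e 1)) = 0 ∧ l (e 0 * δ (e 2)) = 0 ∧ l (e 1 * δ (e 2)) = 0 := by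
        simp only [δ, LinearMap.sub_apply, mul_sub, map_sub, sub_eq_zero]
        exact ⟨k0, k1, k2⟩
      obtain ⟨u0, u1, u2⟩ := up
      intro i j
      fin_cases i <;> fin_cases j <;> simp only [Fin.zero_eta, Fin.mk_one, Fin.reduceFinMk]
      all_goals first
        | exact diag _
        | exact u0
        | exact u1
        | exact u2
        | linear_combination hsk (e 1) (e 0) - u0
        | linear_combination hsk (e 2) (e 0) - u1
        | linear_combination hsk (e 2) (e 1) - u2
    refine Subtype.ext (sub_eq_zero.1 (e.ext fun j => hS.sep0 fun c => ?_))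
    rw [← e.sum_repr c, Finset.sum_mul, map_sum]
    exact Finset.sum_eq_zero fun i _ => by rw [smul_mul_assoc, map_smul, hd, smul_zero]
  exact Nat.card_le_card_of_injective _ hinj

theorem exists_moving : ∃ c : K, c ≠ 0 ∧ c ^ 8 ≠ 1 := by
  classical
  haveI := hS.fin
  haveI := Fintype.ofFinite K
  haveI := Fintype.ofFinite F
  by_contra! h
  have hsub : (Finset.univ : Finset K) ⊆ insert 0 (Polynomial.nthRoots 8 (1 : K)).toFinset := fun c _ => by
    rcases eq_or_ne c 0 with rfl | hc
    · simp
    · simp [Polynomial.mem_nthRoots (show 0 < 8 by norm_num), h c hc]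
  have h1 := (Finset.card_le_card hsub).trans (Finset.card_insert_le _ _)
  have h2 := (Multiset.toFinset_card_le _).trans (Polynomial.card_nthRoots 8 (1 : K))
  rw [Finset.card_univ, Module.card_eq_pow_finrank (K := F) (V := K), h3] at h1
  have hq : 3 ≤ Fintype.card F := by
    by_contra! hlt
    have h1' : 1 < Fintype.card F := Fintype.one_lt_card
    have hqq : Fintype.card F = 2 := by omega
    apply hS.two
    have := Nat.cast_card_eq_zero F
    rw [hqq] at this
    exact_mod_cast this
  have := Nat.pow_le_pow_left hq 3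
  omega

/-- one root element gives all skew maps -/
theorem sk_le_par (hle : Le hS H) (fr : Frame QK v y w) {ν₀ : K →ₗ[F] K} (h₀ : ν₀ ∈ par fr.hv H) (hne : ν₀ ≠ 0)
    {ν : K →ₗ[F] K} (hν : ν ∈ Sk l) : ν ∈ par fr.hv H := by
  classical
  haveI := hS.fin
  haveI := Fintype.ofFinite K
  haveI : Finite (K →ₗ[F] K) := Module.finite_of_finite F
  haveI := Fintype.ofFinite (K →ₗ[F] K)
  set A : AddSubgroup (Sk l) := (par fr.hv H).addSubgroupOf (Sk l).toAddSubgroup
  have hA : ∀ x : Sk l, x ∈ A ↔ x.1 ∈ par fr.hv H := fun x => AddSubgroup.mem_addSubgroupOf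
  have hs₀ : ν₀ ∈ Sk l := par_sk hS fr h₀
  -- the orbit
  have horb : Fintype.card K - 1 ≤ 4 * (Nat.card A - 1) := by
    set s : Finset K := Finset.univ.erase 0 with hs
    let f : K → A := fun c => if hc : c = 0 then 0 else
      ⟨⟨rho c ν₀, rho_sk c hs₀⟩, (hA _).2 (par_rho hS hle fr h₀ hc)⟩
    have hf : ∀ c ∈ s, ((f c : Sk l) : K →ₗ[F] K) = rho c ν₀ := fun c hc => by
      have hc0 : c ≠ 0 := (Finset.mem_erase.1 hc).1
      simp [f, hc0]
    have h1 : s.card ≤ 4 * (s.image f).card := Finset.card_le_mul_card_image s 4 fun a ha => by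
      obtain ⟨d, hd, rfl⟩ := Finset.mem_image.1 ha
      have hd0 : d ≠ 0 := (Finset.mem_erase.1 hd).1
      refine (Finset.card_le_card (t := (Polynomial.nthRoots 4 (d ^ 4)).toFinset) fun c hc => ?_).trans
        ((Multiset.toFinset_card_le _).trans (Polynomial.card_nthRoots 4 _))
      obtain ⟨hcs, hcd⟩ := Finset.mem_filter.1 hc
      have hc0 : c ≠ 0 := (Finset.mem_erase.1 hcs).1
      have e : rho c ν₀ = rho d ν₀ := by rw [← hf c hcs, ← hf d hd, hcd]
      have e' := congrArg (rho d⁻¹) e
      rw [rho_rho, rho_rho, inv_mul_cancel₀ hd0, rho_one] at e'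
      have h4 := fix_rho hS h3 hs₀ hne (mul_ne_zero (inv_ne_zero hd0) hc0) e'
      rw [mul_pow, inv_pow, inv_mul_eq_one₀ (pow_ne_zero 4 hd0)] at h4
      rw [Multiset.mem_toFinset, Polynomial.mem_nthRoots (by norm_num), ← h4]
    haveI := Fintype.ofFinite A
    have h2 : s.image f ⊆ Finset.univ.erase 0 := fun a ha => by
      obtain ⟨c, hc, rfl⟩ := Finset.mem_image.1 ha
      refine Finset.mem_erase.2 ⟨fun e => hne ?_, Finset.mem_univ _⟩
      have hc0 : c ≠ 0 := (Finset.mem_erase.1 hc).1
      have h3 := congrArg (rho c⁻¹) ((hf c hc).symm.trans (congrArg (fun a : A => ((a : Sk l) : K →ₗ[F] K)) e))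
      rw [rho_rho, inv_mul_cancel₀ hc0, rho_one] at h3
      rw [h3]
      exact LinearMap.ext fun x => by simp [rho_apply]
    have h2' := Finset.card_le_card h2
    rw [Finset.card_erase_of_mem (Finset.mem_univ _), Finset.card_univ] at h2'
    have hscard : s.card = Fintype.card K - 1 := by
      rw [hs, Finset.card_erase_of_mem (Finset.mem_univ _), Finset.card_univ]
    rw [hscard] at h1
    rw [Nat.card_eq_fintype_card]
    omega
  have hidx : A.index ≤ 3 := by
    have h1 := A.card_mul_index
    have h2 := card_sk hS h3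
    have hA0 : 0 < Nat.card A := Nat.card_pos
    rw [Nat.card_eq_fintype_card (α := K)] at h2
    by_contra! hlt
    have := Nat.mul_le_mul_left (Nat.card A) hlt
    have := Fintype.one_lt_card (α := K)
    omega
  -- a square of the torus is trivial on the quotient
  have hsmall : ∀ a b : Sk l, a ∉ A → b ∉ A → a - b ∈ A ∨ a + b ∈ A := by
    intro a b ha hb
    by_contra! hne'
    haveI := Fintype.ofFinite ((Sk l) ⧸ A)
    have hbb : b + b ∉ A := fun h => hb (by
      have h2 : ((2 : F)⁻¹ • (b + b) : Sk l) = b := by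
        rw [← two_smul F b, inv_smul_smul₀ hS.two]
      obtain ⟨p, hp⟩ := CharP.exists F
      haveI := hp
      have hp0 : p.Prime := (CharP.char_is_prime_or_zero F p).resolve_right fun e => by
        subst e
        haveI := CharP.charP_to_charZero F
        exact not_finite F
      have hodd : p % 2 = 1 := Nat.odd_iff.1 (hp0.odd_of_ne_two fun e => hS.two (by
        subst e
        exact CharP.ofNat_eq_zero F 2))
      have e : ((p + 1) / 2) • (b + b) = b := by
        rw [← two_nsmul, ← mul_nsmul, mul_comm, Nat.div_mul_cancel (by omega), succ_nsmul,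
          ← Nat.cast_smul_eq_nsmul F p b, CharP.cast_eq_zero, zero_smul, zero_add]
      exact e ▸ A.nsmul_mem h _)
    have hinj : Function.Injective (![0, (a : Sk l ⧸ A), (b : Sk l ⧸ A), ((-b : Sk l) : Sk l ⧸ A)]) := by
      have na : ¬ (0 : Sk l ⧸ A) = (a : Sk l ⧸ A) := fun e => ha ((QuotientAddGroup.eq_zero_iff a).1 e.symm)
      have nb : ¬ (0 : Sk l ⧸ A) = (b : Sk l ⧸ A) := fun e => hb ((QuotientAddGroup.eq_zero_iff b).1 e.symm)
      have nb' : ¬ (0 : Sk l ⧸ A) = ((-b : Sk l) : Sk l ⧸ A) := fun e =>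
        hb (neg_mem_iff.1 ((QuotientAddGroup.eq_zero_iff _).1 e.symm))
      have nab : ¬ (a : Sk l ⧸ A) = (b : Sk l ⧸ A) := fun e => hne'.1 (by
        have := neg_mem (QuotientAddGroup.eq.1 e)
        convert this using 1
        abel)
      have nab' : ¬ (a : Sk l ⧸ A) = ((-b : Sk l) : Sk l ⧸ A) := fun e => hne'.2 (by
        have := neg_mem (QuotientAddGroup.eq.1 e)
        convert this using 1
        abel)
      have nbb : ¬ (b : Sk l ⧸ A) = ((-b : Sk l) : Sk l ⧸ A) := fun e => hbb (by
        have := neg_mem (QuotientAddGroup.eq.1 e)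
        convert this using 1
        abel)
      intro i j h
      fin_cases i <;> fin_cases j
      all_goals first
        | rfl
        | (simp only [Fin.zero_eta, Fin.mk_one, Fin.reduceFinMk, Matrix.cons_val_zero, Matrix.cons_val_one,
              Matrix.cons_val] at h; first
            | exact absurd h na
            | exact absurd h.symm na
            | exact absurd h nb
            | exact absurd h.symm nb
            | exact absurd h nb'
            | exact absurd h.symm nb'
            | exact absurd h nab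
            | exact absurd h.symm nab
            | exact absurd h nab'
            | exact absurd h.symm nab'
            | exact absurd h nbb
            | exact absurd h.symm nbb)
    have h4 := Fintype.card_le_of_injective _ hinj
    rw [Fintype.card_fin] at h4
    have e : A.index = Fintype.card (Sk l ⧸ A) := by
      rw [AddSubgroup.index_eq_card, Nat.card_eq_fintype_card]
    omega
  obtain ⟨c, hc0, hc8⟩ := exists_moving hS h3
  have htriv : ∀ x : Sk l, (⟨rho (c * c) x.1, rho_sk _ x.2⟩ - x : Sk l) ∈ A := by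
    intro x
    let r : Sk l → Sk l := fun z => ⟨rho c z.1, rho_sk _ z.2⟩
    have hr : ∀ z, z ∈ A → r z ∈ A := fun z hz => (hA _).2 (par_rho hS hle fr ((hA _).1 hz) hc0)
    have e : (⟨rho (c * c) x.1, rho_sk _ x.2⟩ : Sk l) = r (r x) := Subtype.ext (rho_rho c c x.1).symm
    rw [e]
    by_cases hx : x ∈ A
    · exact A.sub_mem (hr _ (hr _ hx)) hx
    have hrx : r x ∉ A := fun h => hx ((hA _).2 (by
      have := par_rho hS hle fr ((hA _).1 h) (inv_ne_zero hc0)
      rwa [rho_rho, inv_mul_cancel₀ hc0, rho_one] at this))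
    rcases hsmall (r x) x hrx hx with h | h
    · have h2 := A.add_mem (hr _ h) h
      convert h2 using 1
      refine Subtype.ext ?_
      simp only [r, AddSubgroupClass.coe_sub, Submodule.coe_add, rho_sub]
      abel
    · have h2 := A.sub_mem (hr _ h) h
      convert h2 using 1
      refine Subtype.ext ?_
      simp only [r, AddSubgroupClass.coe_sub, Submodule.coe_add]
      rw [show rho c (rho c x.1 + x.1) = rho c (rho c x.1) + rho c x.1 from LinearMap.ext fun z => by
        simp only [rho_apply, LinearMap.add_apply, mul_add]]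
      abel
  -- it moves every skew map
  let m : Sk l → Sk l := fun x => ⟨rho (c * c) x.1, rho_sk _ x.2⟩ - x
  have hm : Function.Injective m := fun x z e => by
    by_contra hxz
    have hd : x.1 - z.1 ≠ 0 := fun e' => hxz (Subtype.ext (sub_eq_zero.1 e'))
    have e' : rho (c * c) (x.1 - z.1) = x.1 - z.1 := by
      have := congrArg Subtype.val e
      simp only [m, AddSubgroupClass.coe_sub] at this
      rw [rho_sub]
      linear_combination (norm := abel) this
    exact hc8 (by rw [← fix_rho hS h3 ((Sk l).sub_mem x.2 z.2) hd (mul_ne_zero hc0 hc0) e']; ring)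
  obtain ⟨x, hx⟩ := Finite.surjective_of_injective hm ⟨ν, hν⟩
  have := (hA _).1 (htriv x)
  rwa [show (⟨rho (c * c) x.1, rho_sk _ x.2⟩ - x : Sk l) = ⟨ν, hν⟩ from hx] at this

/-- all root groups inside cone lines from one root element -/
theorem eo_of_root [FiniteDimensional F V] (hle : Le hS H) {v : V} (hv0 : v ≠ 0) (hv : QK v = 0) {ν₀ : K →ₗ[F] K}
    (h₀ : ν₀ ∈ par hv H) (hne : ν₀ ≠ 0) : eo Q ≤ H := by
  refine eo_of_all hS fun e he0 he c d => ?_
  obtain ⟨k, hk, t, ht, hkv⟩ := hS.trans hv0 hv he0 he
  obtain ⟨y', w', fr⟩ := hS.exists_frame he0 he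
  have h1 := par_move hS hle hv h₀ hk fr.hv ht hkv
  have h1ne : (LinearMap.mulLeft F t).comp (ν₀.comp (LinearMap.mulLeft F t)) ≠ 0 := fun e' => hne (LinearMap.ext fun x => by
    have := LinearMap.congr_fun e' (t⁻¹ * x)
    simp only [LinearMap.comp_apply, LinearMap.mulLeft_apply, LinearMap.zero_apply, mul_inv_cancel_left₀ ht,
      mul_eq_zero, or_iff_right ht] at this
    rw [LinearMap.zero_apply]
    exact this)
  have hperp : polar Q (c • e) (d • e) = 0 := by
    rw [hS.polar_eq, polar_smul_left, polar_smul_right, polar_self', fr.hv]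
    simp
  refine ⟨hS.cone he c, hS.cone he d, hperp, fun s hu hs => ?_⟩
  let ν : K →ₗ[F] K := (l.comp (LinearMap.mulLeft F (s • d))).smulRight c - (l.comp (LinearMap.mulLeft F c)).smulRight (s • d)
  have hν : ν ∈ Sk l := fun a b => by
    simp only [ν, LinearMap.sub_apply, LinearMap.smulRight_apply, LinearMap.comp_apply, LinearMap.mulLeft_apply,
      mul_sub, mul_smul_comm, smul_mul_assoc, map_sub, map_smul, smul_eq_mul, mul_comm _ c, mul_comm _ d]
    ring
  obtain ⟨o, ho, hoe⟩ := sk_le_par hS h3 hle fr h1 h1ne hν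
  convert ho using 1
  refine ext_oG fun x => ?_
  have hz : ∀ r : K, polar Q x (r • e) = l (r * polar QK e x) := fun r => by
    rw [hS.polar_eq, polar_smul_right, polar_comm QK x e, smul_eq_mul]
  rw [hoe, sO_apply, show s • d • e = (s • d) • e by rw [smul_assoc], hz, hz, hS.cone he (s • d)]
  simp only [ν, LinearMap.sub_apply, LinearMap.smulRight_apply, LinearMap.comp_apply, LinearMap.mulLeft_apply]
  simp only [sub_smul, smul_assoc, zero_mul, neg_zero, zero_smul, add_zero, neg_smul]
  abel

end Three

end Cfsg.Agent.ClassicalMax.ExtOrth3.Deg3
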