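import Cfsg.Agent.ClassicalMax.ExtOrth3.Deg3.Root
import Cfsg.Agent.Classical.ExcCore

/-!
An overgroup containing the semilinear elements but no root elements: the layer group of a cone line is its root
group, and an element of the overgroup normalising that line, or carrying one of its root elements to a linear one, is
semilinear.
-/

set_option autoImplicit false
set_option linter.unusedSectionVars false
set_option linter.style.haveILetI false

namespace Cfsg.Agent.ClassicalMax.ExtOrth3.Deg3

open Module QuadraticMap Cfsg.Agent.Classical Cfsg.Agent.Classical.Quad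

variable {F K V : Type*} [Field F] [Field K] [Algebra F K] [AddCommGroup V] [Module F V] [Module K V]
  [IsScalarTower F K V] [Finite K] [Finite F] {Q : QuadraticForm F V} {QK : QuadraticForm K V} {l : K →ₗ[F] F}
  {H : Subgroup (oG Q)} {v y w : V}

variable (K) in
/-- the element carries lines into lines -/
def SL (g : oG Q) : Prop := ∀ (k : K) (x : V), g.1 (k • x) ∈ K ∙ g.1 x

variable (K) in
/-- the element is semilinear -/
def Semilin (g : oG Q) : Prop := ∃ σ : K →ₐ[F] K, ∀ (k : K) (x : V), g.1 (k • x) = σ k • g.1 x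

theorem Semilin.sl {g : oG Q} (h : Semilin K g) : SL K g := fun k x => by
  obtain ⟨σ, hσ⟩ := h
  exact Submodule.mem_span_singleton.2 ⟨_, (hσ k x).symm⟩

theorem semilin_one : Semilin K (1 : oG Q) := ⟨AlgHom.id F K, fun _ _ => rfl⟩

theorem Semilin.mul {g h : oG Q} (hg : Semilin K g) (hh : Semilin K h) : Semilin K (g * h) := by
  obtain ⟨σ, hσ⟩ := hg
  obtain ⟨τ, hτ⟩ := hh
  exact ⟨σ.comp τ, fun k x => by rw [oG_mul_apply, hτ, hσ, oG_mul_apply]; rfl⟩

theorem Semilin.inv {g : oG Q} (hg : Semilin K g) : Semilin K g⁻¹ := by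
  obtain ⟨σ, hσ⟩ := hg
  let e : K ≃ₐ[F] K := AlgEquiv.ofBijective σ
    ⟨σ.toRingHom.injective, Finite.surjective_of_injective σ.toRingHom.injective⟩
  refine ⟨e.symm.toAlgHom, fun k x => g.1.injective ?_⟩
  rw [oG_apply_inv, hσ, oG_apply_inv]
  show k • x = e (e.symm k) • x
  rw [AlgEquiv.apply_symm_apply]

theorem semilin_res (hS : Setting Q QK l) (k : oG QK) : Semilin K (res hS k) :=
  ⟨AlgHom.id F K, fun c x => by rw [res_apply, res_apply]; exact map_smul k.1 c x⟩

/-- semilinear elements of the commutator subgroup lie in the overgroup, which has no root elements -/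
structure Hyp (hS : Setting Q QK l) (H : Subgroup (oG Q)) : Prop where
  deg : finrank F K = 3
  le : H ≤ commutator (oG Q)
  norm : ∀ h ∈ commutator (oG Q), SL K h → h ∈ H
  noroot : ∀ v : V, v ≠ 0 → ∀ hv : QK v = 0, ∀ ν ∈ par hv H, ν = 0

theorem le_of_norm (hS : Setting Q QK l) (hnorm : ∀ h ∈ commutator (oG Q), SL K h → h ∈ H) : Le hS H := fun h hh => by
  refine hnorm _ ?_ (semilin_res hS h).sl
  have h1 : (commutator (oG QK)).map (res hS) ≤ commutator (oG Q) := by
    rw [commutator_def, commutator_def, Subgroup.map_commutator]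
    exact Subgroup.commutator_mono le_top le_top
  exact h1 ⟨h, hh, rfl⟩

theorem qk_zero_of (hS : Setting Q QK l) {z : V} (h : ∀ c : K, Q (c • z) = 0) : QK z = 0 := by
  refine hS.sep0 fun c => ?_
  have e : ∀ a : K, l (a * a * QK z) = 0 := fun a => by
    have := h a
    rwa [hS.eq, map_smul'] at this
  have h1 := e (c + 1)
  rw [show (c + 1) * (c + 1) * QK z = c * c * QK z + ((2 : F) • (c * QK z) + 1 * 1 * QK z) by
    rw [Algebra.smul_def, map_ofNat]; ring, map_add, map_add, e, e, map_smul, zero_add, add_zero, smul_eq_mul] at h1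
  exact (mul_eq_zero.1 h1).resolve_left hS.two

namespace Hyp

variable {hS : Setting Q QK l}

theorem hle (hh : Hyp hS H) : Le hS H := le_of_norm hS hh.norm

theorem comm (hh : Hyp hS H) (fr : Frame QK v y w) : Comm hS H fr := by
  by_contra hC
  obtain ⟨ν, hν, hν0⟩ := Submodule.exists_mem_ne_zero_of_ne_bot (lin_ne_bot_of_not_comm hS hh.hle fr hC)
  exact hν0 (hh.noroot v fr.v_ne fr.hv ν (exists_root hν))

/-- the layer group is the root group -/
theorem rad_eq (hh : Hyp hS H) (fr : Frame QK v y w) {S : oG Q} (hSr : S ∈ rad hS H v) :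
    S = tr hS fr (chi QK y w S) := by
  set S' := S * tr hS fr (-chi QK y w S) with hS'
  have hm : S' ∈ rad hS H v := mul_mem hSr (tr_mem_rad hS fr hh.hle _)
  have hχ : chi QK y w S' = 0 := by rw [hS', chi_mul hS fr hSr.2 (tr_isRad hS fr _), chi_tr, add_neg_cancel]
  have hC := hh.comm fr
  let ν : K →ₗ[F] K :=
    { toFun := fun b => polar QK y (S'.1 (b • y) - b • y)
      map_add' := fun a b => by rw [← polar_add_right, add_smul, map_add]; congr 1; abel
      map_smul' := fun f b => by
        rw [RingHom.id_apply, smul_assoc, map_smul, ← smul_sub, ← algebraMap_smul K f, polar_smul_right, smul_eq_mul,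
          Algebra.smul_def] }
  have hby : ∀ b : K, S'.1 (b • y) = b • y + ν b • v := fun b => by
    set δ := S'.1 (b • y) - b • y with hδ
    have h1 : polar QK v δ = 0 := hS.sub_of_fix hm.2.fix _
    have h2 := (hC.apply hm b).2
    rw [hχ, mul_zero, neg_zero] at h2
    have h3 : polar QK w δ = 0 := by
      rw [hδ, polar_sub_right, h2, polar_smul_right, polar_comm QK w y, fr.hyw, smul_zero, sub_zero]
    have e := fr.decomp hS δ
    rw [h1, h3, zero_smul, zero_div, zero_smul, add_zero, add_zero] at e
    show S'.1 (b • y) = b • y + polar QK y δ • v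
    rw [← e, hδ, add_sub_cancel]
  have hroot : IsRoot QK H v ν S' := ⟨hm.1, fun x => by
    conv_lhs => rw [fr.decomp hS x, map_add, map_add, hm.2.fix, hby, (hC.apply hm _).1, hχ, mul_zero, zero_smul, add_zero]
    conv_rhs => arg 1; rw [fr.decomp hS x]
    abel⟩
  have hν := hh.noroot v fr.v_ne fr.hv ν ⟨_, hroot⟩
  have h1 : S' = 1 := ext_oG fun x => by rw [hroot.2, hν, LinearMap.zero_apply, zero_smul, add_zero, oG_one_apply]
  rw [hS'] at h1
  have e : tr hS fr (-chi QK y w S) * tr hS fr (chi QK y w S) = 1 := by rw [tr_add, neg_add_cancel, tr_zero]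
  conv_lhs => rw [eq_inv_of_mul_eq_one_left h1, inv_eq_of_mul_eq_one_right e]

/-- an element of the overgroup normalising a cone line is semilinear -/
theorem semilin_of_stab [FiniteDimensional F V] (hh : Hyp hS H) (fr : Frame QK v y w) {n : oG Q} (hn : n ∈ H)
    (hst : StabL K v n) : Semilin K n := by
  haveI := hS.finV
  have hv := fr.v_ne
  have hst' := hst.inv hv
  set θ := QK w with hθ
  have h2θ : (2 : K) * θ ≠ 0 := mul_ne_zero hS.twoK fr.hw
  choose A hA using hst
  set χ := fun s : K => chi QK y w (n * tr hS fr s * n⁻¹) with hχd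
  have hrel : ∀ s x, n.1 ((tr hS fr s).1 x) = (tr hS fr (χ s)).1 (n.1 x) := fun s x => by
    have e := hh.rad_eq fr (conj_rad hS hv hn (fun c => ⟨A c, hA c⟩) (tr_mem_rad hS fr hh.hle s))
    have := congrArg (fun g : oG Q => g.1 (n.1 x)) e
    simpa only [oG_mul_apply, oG_inv_apply] using this
  have hperp : ∀ x, polar QK v x = 0 → polar QK v (n.1 x) = 0 := fun x hx => hS.perp_of_stab hst' hx
  set α := fun t : K => polar QK y (n.1 (t • w)) with hαd
  set γ := fun t : K => polar QK w (n.1 (t • w)) / (2 * θ) with hγd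
  have hnw : ∀ t : K, n.1 (t • w) = α t • v + γ t • w := fun t => by
    conv_lhs => rw [fr.decomp hS (n.1 (t • w)), hperp _ (polar_perp_smul fr.hvw t), zero_smul, add_zero]
  have hA1 : A 1 ≠ 0 := fun e => hv (n.1.injective (by
    have := hA 1
    rw [e, zero_smul, one_smul] at this
    rw [this, map_zero]))
  have hAadd : ∀ a b, A (a + b) = A a + A b := fun a b => smul_left_injective K hv (by
    show A (a + b) • v = (A a + A b) • v
    rw [← hA, add_smul, map_add, add_smul, hA, hA])
  -- on the orthogonal of the line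
  have rel1 : ∀ s t : K, A (2 * θ * (s * t)) = 2 * θ * χ s * γ t := fun s t => by
    have h1 := hrel s (t • w)
    rw [tr_perp hS fr s (polar_perp_smul fr.hvw t), map_add, hA, hnw,
      tr_perp hS fr (χ s) (fr.perp_mem _ _)] at h1
    have h2 := smul_left_injective K hv (add_left_cancel h1)
    rw [polar_smul_left, polar_self', polar_add_left, polar_smul_left, polar_smul_left, fr.hvw, polar_self',
      smul_zero, zero_add, smul_eq_mul, smul_eq_mul] at h2
    rw [show 2 * θ * (s * t) = s * (t * (2 * θ)) by ring, h2]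
    ring
  set t₀ := (2 * θ)⁻¹
  have hθt : ∀ s : K, 2 * θ * (s * t₀) = s := fun s => by
    rw [mul_left_comm, mul_inv_cancel₀ h2θ, mul_one]
  have hA' : ∀ s, A s = 2 * θ * χ s * γ t₀ := fun s => by
    rw [← rel1, hθt]
  have hγ0 : γ t₀ ≠ 0 := fun e => hA1 (by rw [hA', e, mul_zero])
  have hmul : ∀ a b, A (a * b) * A 1 = A a * A b := fun a b => by
    have h1 := rel1 a (b * t₀)
    have h2 := rel1 1 (b * t₀)
    rw [← mul_assoc a, hθt] at h1
    rw [one_mul, hθt] at h2
    rw [h1, h2, hA' a, hA' 1]
    ring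
  let σ : K →ₐ[F] K :=
    { toFun := fun x => A x / A 1
      map_one' := div_self hA1
      map_mul' := fun a b => by
        rw [div_mul_div_comm, ← hmul, mul_div_mul_right _ _ hA1]
      map_zero' := by
        have := hAadd 0 0
        rw [add_zero, eq_comm, add_eq_left] at this
        simp [this]
      map_add' := fun a b => by rw [hAadd, add_div]
      commutes' := fun f => by
        have e : A (algebraMap F K f) = algebraMap F K f * A 1 := smul_left_injective K hv (by
          show A (algebraMap F K f) • v = (algebraMap F K f * A 1) • v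
          rw [← hA, algebraMap_smul, map_smul, ← smul_smul, algebraMap_smul, ← hA, one_smul])
        show A (algebraMap F K f) / A 1 = _
        rw [e, mul_div_cancel_right₀ _ hA1] }
  have hAσ : ∀ c, A c = A 1 * σ c := fun c => (mul_div_cancel₀ _ hA1).symm
  have hχodd : ∀ s, χ (-s) = -χ s := fun s => by
    apply mul_right_cancel₀ hγ0
    apply mul_left_cancel₀ h2θ
    have := hA' (-s)
    rw [hAσ, map_neg, mul_neg, ← hAσ, hA'] at this
    linear_combination -this
  have hγ : ∀ t, γ t = γ 1 * σ t := fun t => by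
    have h1 := rel1 1 t
    have h2 := rel1 1 1
    rw [one_mul] at h1 h2
    rw [hAσ, map_mul] at h1
    rw [mul_one, hAσ] at h2
    have h2χ : 2 * θ * χ 1 ≠ 0 := fun e => hA1 (by rw [hA', e, zero_mul])
    apply mul_left_cancel₀ h2χ
    rw [← h1, ← mul_assoc, ← mul_assoc, ← h2]
  -- off the orthogonal
  set β := fun b : K => polar QK v (n.1 (b • y)) with hβd
  set P := fun b : K => polar QK (n.1 (b • y)) w with hPd
  have rel2 : ∀ s b : K, γ (s * b) = χ s * β b ∧
      A (-(s * s * θ * b)) - α (s * b) = χ s * P b - χ s * χ s * θ * β b := fun s b => by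
    have h1 := hrel s (b • y)
    rw [tr_y, map_sub, map_add, hA, hnw, tr_apply] at h1
    have h2 : (A (-(s * s * θ * b)) - α (s * b) - (χ s * P b - χ s * χ s * θ * β b)) • v
        + (0 : K) • y + (χ s * β b - γ (s * b)) • w = 0 := by
      linear_combination (norm := module) h1
    obtain ⟨e1, e2, e3, -⟩ := fr.eval (A (-(s * s * θ * b)) - α (s * b) - (χ s * P b - χ s * χ s * θ * β b)) 0
      (χ s * β b - γ (s * b))
    rw [h2, polar_zero_right] at e2 e3
    exact ⟨(sub_eq_zero.1 ((mul_eq_zero.1 e3.symm).resolve_left h2θ)).symm, sub_eq_zero.1 e2.symm⟩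
  have hαP : ∀ s b, α (s * b) = -(χ s * P b) := fun s b => by
    have h1 := (rel2 s b).2
    have h2 := (rel2 (-s) b).2
    have hαn : α (-(s * b)) = -α (s * b) := by
      simp only [hαd, neg_smul, map_neg, polar_neg_right]
    rw [neg_mul_neg, neg_mul, hαn, hχodd] at h2
    exact mul_left_cancel₀ hS.twoK (by linear_combination h2 - h1)
  have hγ1 : γ 1 ≠ 0 := fun e => hγ0 (by rw [hγ, e, zero_mul])
  have hβ1 : β 1 ≠ 0 := fun e => hγ1 (by
    have := (rel2 1 1).1
    rwa [one_mul, e, mul_zero] at this)
  have hχ : ∀ s, χ s = γ 1 / β 1 * σ s := fun s => by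
    have := (rel2 s 1).1
    rw [mul_one, hγ] at this
    rw [div_mul_eq_mul_div, this, mul_div_cancel_right₀ _ hβ1]
  have hβ : ∀ b, β b = β 1 * σ b := fun b => by
    have h1 := (rel2 1 b).1
    rw [one_mul] at h1
    have h11 := (rel2 1 1).1
    rw [mul_one] at h11
    exact mul_left_cancel₀ hγ1 (by linear_combination (β b) * h11 - β 1 * h1 + β 1 * hγ b)
  have hα : ∀ t, α t = α 1 * σ t := fun t => by
    have h1 := hαP t 1
    have h2 := hαP 1 1
    rw [mul_one, hχ] at h1
    rw [mul_one, hχ, map_one, mul_one] at h2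
    rw [h1, h2]
    ring
  have hP : ∀ b, P b = P 1 * σ b := fun b => by
    have h1 := hαP 1 b
    have h2 := hαP 1 1
    rw [one_mul, hα] at h1
    rw [mul_one] at h2
    rw [h2] at h1
    have hχ1 : χ 1 ≠ 0 := by rw [hχ, map_one, mul_one]; exact div_ne_zero hγ1 hβ1
    exact mul_left_cancel₀ hχ1 (by linear_combination h1)
  -- the correcting root element
  set ε := -(QK (n.1 y)) / β 1 with hεd
  set z₀ := n.1 y + ε • v with hz₀d
  have hy1 : n.1 y = n.1 ((1 : K) • y) := by rw [one_smul]
  have hz₀ : QK z₀ = 0 := by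
    rw [hz₀d, map_add', map_smul', fr.hv, polar_smul_right, polar_comm QK (n.1 y) v,
      show polar QK v (n.1 y) = β 1 by rw [hy1]]
    simp only [smul_eq_mul, mul_zero, add_zero, hεd]
    field_simp
    ring
  have hD : ∀ b : K, ∃ c : K, (n⁻¹).1 (σ b • z₀) = b • y + c • v := fun b => by
    set D := σ b • z₀ - n.1 (b • y) with hDd
    have hv0 : polar QK v D = 0 := by
      rw [hDd, hz₀d, polar_sub_right, polar_smul_right, polar_add_right, polar_smul_right, polar_self', fr.hv,
        mul_zero, smul_zero, add_zero, smul_eq_mul, show polar QK v (n.1 y) = β 1 by rw [hy1], mul_comm, ← hβ]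
      exact sub_self _
    have hw0 : polar QK w D = 0 := by
      rw [hDd, hz₀d, polar_sub_right, polar_smul_right, polar_add_right, polar_smul_right, polar_comm QK w v, fr.hvw,
        smul_zero, add_zero, smul_eq_mul, show polar QK w (n.1 y) = P 1 by rw [hy1, polar_comm], mul_comm, ← hP,
        polar_comm QK w]
      exact sub_self _
    have e := fr.decomp hS D
    rw [hv0, hw0, zero_smul, zero_div, zero_smul, add_zero, add_zero] at e
    obtain ⟨c, hc⟩ := hst' (polar QK y D)
    refine ⟨c, n.1.injective ?_⟩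
    rw [oG_apply_inv, map_add, ← hc, oG_apply_inv, ← e, hDd, add_sub_cancel]
  have hvy : ∀ c : K, polar QK y (c • v) = c := fun c => by
    rw [polar_smul_right, polar_comm QK y v, fr.hvy, smul_eq_mul, mul_one]
  let ν : K →ₗ[F] K :=
    { toFun := fun b => polar QK y ((n⁻¹).1 (σ b • z₀) - b • y)
      map_add' := fun a b => by rw [← polar_add_right, map_add, add_smul, map_add, add_smul]; congr 1; abel
      map_smul' := fun f b => by
        rw [RingHom.id_apply, smul_assoc f b y, map_smul σ, smul_assoc f (σ b) z₀, map_smul, ← smul_sub,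
          ← algebraMap_smul K f, polar_smul_right, smul_eq_mul, Algebra.smul_def] }
  have hν : ∀ b : K, (n⁻¹).1 (σ b • z₀) = b • y + ν b • v := fun b => by
    obtain ⟨c, hc⟩ := hD b
    have : ν b = c := by
      show polar QK y ((n⁻¹).1 (σ b • z₀) - b • y) = c
      rw [hc, add_sub_cancel_left, hvy]
    rw [this, hc]
  have hskew : ∀ b, l (ν b * b) = 0 := fun b => by
    have h1 : Q ((n⁻¹).1 (σ b • z₀)) = 0 := by rw [(n⁻¹).2, hS.cone hz₀]
    rw [hν, hS.eq, map_add', map_smul', map_smul', fr.hv, fr.hy, polar_smul_left, polar_smul_right,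
      polar_comm QK y v, fr.hvy] at h1
    simpa [smul_eq_mul, mul_comm] using h1
  let L : (K →ₗ[F] K) → (V →ₗ[F] V) := fun μ => LinearMap.id +
    ((LinearMap.toSpanSingleton K V v).restrictScalars F).comp (μ.comp ((polarBilin QK v).restrictScalars F))
  have hL : ∀ μ x, L μ x = x + μ (polar QK v x) • v := fun μ x => rfl
  have hLL : ∀ μ μ', μ + μ' = 0 → ∀ x, L μ (L μ' x) = x := fun μ μ' e x => by
    rw [hL, hL, polar_add_right, polar_smul_right, polar_self', fr.hv, mul_zero, smul_zero, add_zero, add_assoc,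
      ← add_smul, ← LinearMap.add_apply, add_comm μ' μ, e, LinearMap.zero_apply, zero_smul, add_zero]
  let oe : V ≃ₗ[F] V := LinearEquiv.ofLinearMap (L ν) (L (-ν)) (LinearMap.ext fun x => hLL _ _ (by abel) x)
    (LinearMap.ext fun x => hLL _ _ (by abel) x)
  have hoe : ∀ x, oe x = x + ν (polar QK v x) • v := fun x => rfl
  let o : oG Q := ⟨oe, fun x => by
    show Q (oe x) = Q x
    rw [hoe, map_add', hS.cone fr.hv, hS.polar_eq, polar_smul_right, polar_comm QK x v, smul_eq_mul, hskew,
      add_zero, add_zero]⟩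
  have ho : ∀ x, o.1 x = x + ν (polar QK v x) • v := hoe
  have hoC : o ∈ commutator (oG Q) := by
    obtain ⟨p, hp⟩ := CharP.exists F
    haveI := hp
    have hpp : p.Prime := (CharP.char_is_prime_or_zero F p).resolve_right fun e => by
      subst e
      haveI := CharP.charP_to_charZero F
      exact not_finite F
    haveI := Fact.mk hpp
    have hodd : p % 2 = 1 := Nat.odd_iff.1 (hpp.odd_of_ne_two fun e => hS.two (by
      subst e
      exact CharP.ofNat_eq_zero F 2))
    have hpow : ∀ (k : ℕ) x, (o ^ k).1 x = x + (k : F) • (ν (polar QK v x) • v) := by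
      intro k
      induction k with
      | zero => intro x; simp [oG_one_apply]
      | succ k ih =>
        intro x
        rw [pow_succ', oG_mul_apply, ih, map_add, map_smul, ho, ho, polar_smul_right, polar_self', fr.hv]
        simp only [mul_zero, smul_zero, map_zero, zero_smul, add_zero]
        push_cast
        module
    have h1 : o ^ p = 1 := ext_oG fun x => by rw [hpow, CharP.cast_eq_zero F p, zero_smul, add_zero, oG_one_apply]
    haveI : Finite V := Module.finite_of_finite F
    have e : o = o ^ ((p + 1) / 2) * o ^ ((p + 1) / 2) := by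
      rw [← pow_add, ← two_mul, Nat.mul_div_cancel' (by omega), pow_succ, h1, one_mul]
    rw [e]
    exact Exc.sq_mem_commutator hS.nondeg hS.two (by rw [hS.finrankV, hh.deg]; norm_num) _
  have hno : Semilin K (n * o) := by
    have e : ∀ a b c : K, (n * o).1 (a • v + b • y + c • w) =
        σ a • n.1 v + σ b • z₀ + σ c • n.1 w := fun a b c => by
      have e1 : o.1 (a • v + b • y + c • w) = a • v + (b • y + ν b • v) + c • w := by
        rw [ho, (fr.eval a b c).1]; abel
      have e2 : n.1 (a • v) = σ a • n.1 v := by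
        conv_rhs => rw [← one_smul K v, hA, smul_smul, mul_comm, ← hAσ]
        rw [hA]
      have e3 : n.1 (c • w) = σ c • n.1 w := by
        conv_rhs => rw [← one_smul K w, hnw, smul_add, smul_smul, smul_smul, mul_comm (σ c), mul_comm (σ c), ← hα, ← hγ]
        rw [hnw]
      rw [oG_mul_apply, e1, map_add, map_add, e2, e3, ← hν, oG_apply_inv]
    refine ⟨σ, fun k x => ?_⟩
    rw [fr.decomp hS x, smul_add, smul_add, smul_smul, smul_smul, smul_smul, e, e, map_mul, map_mul, map_mul]
    module
  have hnoH : n * o ∈ H := hh.norm _ (mul_mem (hh.le hn) hoC) hno.sl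
  have hoH : o ∈ H := by
    have := mul_mem (inv_mem hn) hnoH
    rwa [inv_mul_cancel_left] at this
  have hν0 := hh.noroot v hv fr.hv ν ⟨o, hoH, ho⟩
  have ho1 : o = 1 := ext_oG fun x => by rw [ho, hν0, LinearMap.zero_apply, zero_smul, add_zero, oG_one_apply]
  rwa [ho1, mul_one] at hno

/-- a line-preserving element of the overgroup is semilinear -/
theorem semilin_of_sl [FiniteDimensional F V] (hh : Hyp hS H) {g : oG Q} (hg : g ∈ H) (hsl : SL K g) :
    Semilin K g := by
  obtain ⟨v, hv0, hv⟩ := hS.exists_cone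
  obtain ⟨y, w, fr⟩ := hS.exists_frame hv0 hv
  choose d hd using fun c : K => Submodule.mem_span_singleton.1 (hsl c v)
  have hgv : g.1 v ≠ 0 := fun e => hv0 (g.1.injective (by rw [e, map_zero]))
  have hsur : Function.Surjective d := Finite.surjective_of_injective fun a b e =>
    smul_left_injective K hv0 (g.1.injective (by rw [← hd, ← hd, e]))
  have hcone : QK (g.1 v) = 0 := qk_zero_of hS fun c => by
    obtain ⟨c', rfl⟩ := hsur c
    rw [hd, g.2, hS.cone hv]
  obtain ⟨h, hhc, t, -, hht⟩ := hS.trans hgv hcone hv0 hv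
  have hn : res hS h * g ∈ H := mul_mem (hh.hle h hhc) hg
  have hsl' := hh.semilin_of_stab fr hn fun c => ⟨d c * t, by
    rw [oG_mul_apply, res_apply, ← hd, map_smul, hht, smul_smul]⟩
  have := (semilin_res hS h).inv.mul hsl'
  rwa [inv_mul_cancel_left] at this

/-- an element carrying a root element to a linear one is semilinear -/
theorem semilin_of_conj [FiniteDimensional F V] (hh : Hyp hS H) (fr : Frame QK v y w) {g : oG Q} (hg : g ∈ H) {t : K}
    (ht : t ≠ 0) {k : oG QK} (hk : g⁻¹ * tr hS fr t * g = res hS k) : Semilin K g := by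
  have hfix : ∀ x, (tr hS fr t).1 x = x → ∃ a : K, x = a • v := fun x hx => by
    rw [tr_apply] at hx
    have e : (t * polar QK x w - t * t * QK w * polar QK v x) • v + (0 : K) • y + (-(t * polar QK v x)) • w = 0 := by
      linear_combination (norm := module) hx
    obtain ⟨-, e2, e3, -⟩ := fr.eval (t * polar QK x w - t * t * QK w * polar QK v x) 0 (-(t * polar QK v x))
    rw [e, polar_zero_right] at e2 e3
    have hb : polar QK v x = 0 := by
      have := (mul_eq_zero.1 e3.symm).resolve_left (mul_ne_zero hS.twoK fr.hw)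
      exact (mul_eq_zero.1 (neg_eq_zero.1 this)).resolve_left ht
    rw [hb, mul_zero, sub_zero, eq_comm] at e2
    have hw0 := (mul_eq_zero.1 e2).resolve_left ht
    refine ⟨polar QK y x, ?_⟩
    conv_lhs => rw [fr.decomp hS x, hb, polar_comm QK w x, hw0, zero_smul, zero_div, zero_smul, add_zero, add_zero]
  set z := (g⁻¹).1 v with hz
  have hgz : g.1 z = v := oG_apply_inv g v
  have hkz : k.1 z = z := by
    rw [← res_apply hS, ← hk, oG_mul_apply, oG_mul_apply, hgz]
    have := tr_fix hS fr t 1
    rw [one_smul] at this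
    rw [this]
  have hline : ∀ c : K, ∃ d : K, g.1 (c • z) = d • v := fun c => hfix _ (by
    have e : k.1 (c • z) = c • z := by rw [map_smul, hkz]
    rw [← res_apply hS, ← hk, oG_mul_apply, oG_mul_apply] at e
    have := congrArg g.1 e
    rwa [oG_apply_inv] at this)
  have hz0 : z ≠ 0 := fun e => fr.v_ne (by rw [← hgz, e, map_zero])
  have hzc : QK z = 0 := qk_zero_of hS fun c => by
    obtain ⟨d, hd⟩ := hline c
    rw [← g.2, hd, hS.cone fr.hv]
  obtain ⟨h, hhc, t', -, hht⟩ := hS.trans fr.v_ne fr.hv hz0 hzc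
  have hn : g * res hS h ∈ H := mul_mem hg (hh.hle h hhc)
  have hsl' := hh.semilin_of_stab fr hn fun c => by
    obtain ⟨d, hd⟩ := hline (c * t')
    exact ⟨d, by rw [oG_mul_apply, res_apply, map_smul, hht, smul_smul, hd]⟩
  have := hsl'.mul (semilin_res hS h).inv
  rwa [mul_inv_cancel_right] at this

end Hyp

end Cfsg.Agent.ClassicalMax.ExtOrth3.Deg3
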